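import Cfsg.Prelude.Def_CaseTheorems
import Cfsg.Prelude.Def_Involutions
import Cfsg.Prelude.Def_Transfer
import Cfsg.Prelude.Def_PLocal
import Cfsg.Agent.Lib.LocalStr.Basic
import Cfsg.Agent.Lib.Transfer.Fusion
import Cfsg.Agent.Lib.Solvable.CoprimeAction
import Cfsg.Agent.Lib.Case.CharTwo
import Cfsg.Agent.Lib.Balance.Orbit
import Cfsg.Agent.Lib.Even.CharP
import Cfsg.Agent.S1789

/-!
Groups with solvable involution centralizers in which the centralizer of `Ω₁(Z(S))` normalizes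
the Sylow 2-subgroup `S`: generalities.
-/

set_option autoImplicit false
set_option linter.style.haveILetI false

open scoped Pointwise
open Subgroup CfsgLib.Balance

namespace CfsgLib.SmithTwo

variable {G : Type*} [Group G] [Finite G]

/-- The subgroup `Ω₁(Z(S))`. -/
abbrev Om (S : Sylow 2 G) : Subgroup G :=
  Cfsg.omegaOne 2 ((S : Subgroup G) ⊓ centralizer ((S : Subgroup G) : Set G))

/-- The standing hypotheses. -/
structure Hyp (G : Type*) [Group G] [Finite G] : Prop where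
  even : Even (Nat.card G)
  solv : ∀ t : G, orderOf t = 2 → Group.IsSolvable ↥(centralizer ({t} : Set G))
  cent : ∀ S : Sylow 2 G, centralizer (Om S : Set G) ≤ normalizer ((S : Subgroup G) : Set G)
  oddCore : Cfsg.pPrimeCore 2 G = ⊥
  twoCore : Cfsg.pCore 2 G = ⊥

theorem orderOf_two {x : G} (h : x * x = 1) (h1 : x ≠ 1) : orderOf x = 2 :=
  orderOf_eq_prime (by rw [pow_two]; exact h) h1

theorem mul_self_of_two {x : G} (h : orderOf x = 2) : x * x = 1 := by
  rw [← pow_two, ← h]; exact pow_orderOf_eq_one x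

theorem ne_one_of_two {x : G} (h : orderOf x = 2) : x ≠ 1 := fun h' => by simp [h'] at h

theorem orderOf_conj' (g x : G) : orderOf (g * x * g⁻¹) = orderOf x :=
  orderOf_injective (MulAut.conj g).toMonoidHom (MulAut.conj g).injective x

theorem mem_Om {S : Sylow 2 G} {x : G} :
    x ∈ Om S ↔ x ∈ (S : Subgroup G) ∧ (∀ s ∈ (S : Subgroup G), s * x = x * s) ∧ x * x = 1 := by
  constructor
  · intro hx
    refine closure_induction (fun y hy => ?_) ⟨one_mem _, fun s _ => by simp, by simp⟩ ?_ ?_ hx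
    · obtain ⟨⟨hyS, hyc⟩, hy2⟩ := hy
      exact ⟨hyS, fun s hs => hyc s hs, by rw [← pow_two]; exact hy2⟩
    · rintro a b - - ⟨haS, hac, ha2⟩ ⟨hbS, hbc, hb2⟩
      refine ⟨mul_mem haS hbS, fun s hs => ?_, ?_⟩
      · rw [← mul_assoc, hac s hs, mul_assoc, hbc s hs, mul_assoc]
      · rw [Commute.mul_mul_mul_comm (hac b hbS), ha2, hb2, one_mul]
    · rintro a - ⟨haS, hac, ha2⟩
      refine ⟨inv_mem haS, fun s hs => ?_, by rw [← mul_inv_rev, ha2, inv_one]⟩
      exact ((Commute.inv_right (show Commute s a from hac s hs))).eq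
  · rintro ⟨hxS, hxc, hx2⟩
    exact subset_closure ⟨⟨hxS, fun s hs => hxc s hs⟩, by rw [pow_two]; exact hx2⟩

theorem Om_le (S : Sylow 2 G) : Om S ≤ (S : Subgroup G) := fun _ hx => (mem_Om.1 hx).1

theorem le_centralizer_Om (S : Sylow 2 G) : (S : Subgroup G) ≤ centralizer (Om S : Set G) :=
  fun s hs => mem_centralizer_iff.2 fun z hz => ((mem_Om.1 hz).2.1 s hs).symm

theorem Om_elementary (S : Sylow 2 G) : Cfsg.IsElementaryAbelian 2 (Om S) :=
  ⟨⟨⟨fun a b => Subtype.ext ((mem_Om.1 b.2).2.1 a (Om_le S a.2))⟩⟩,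
    fun a ha => by rw [pow_two]; exact (mem_Om.1 ha).2.2⟩

theorem mem_Om_smul {g : G} {S : Sylow 2 G} {x : G} : x ∈ Om (g • S) ↔ g⁻¹ * x * g ∈ Om S := by
  have hm := CfsgLib.Transfer.mem_sylow_smul_iff (p := 2) g S
  have e : ∀ a b : G, g⁻¹ * (a * b) * g = (g⁻¹ * a * g) * (g⁻¹ * b * g) := fun a b => by group
  have hinj : ∀ a b : G, g⁻¹ * a * g = g⁻¹ * b * g → a = b := fun a b h =>
    mul_left_cancel (mul_right_cancel h)
  rw [mem_Om, mem_Om]
  constructor
  · rintro ⟨h1, h2, h3⟩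
    refine ⟨(hm x).1 h1, fun s hs => ?_, by rw [← e, h3]; simp⟩
    have h4 := h2 (g * s * g⁻¹) ((hm _).2 (show g⁻¹ * (g * s * g⁻¹) * g ∈ (S : Subgroup G) by simpa [mul_assoc] using hs))
    have h5 := congrArg (fun y => g⁻¹ * y * g) h4
    simpa [mul_assoc] using h5
  · rintro ⟨h1, h2, h3⟩
    refine ⟨(hm x).2 h1, fun s hs => hinj _ _ ?_, hinj _ _ ?_⟩
    · rw [e, e]; exact h2 _ ((hm s).1 hs)
    · rw [e, h3]; simp

theorem twoGroup_zpowers {x : G} (h : x * x = 1) : IsPGroup 2 (zpowers x) := by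
  have : Fact (Nat.Prime 2) := ⟨Nat.prime_two⟩
  rcases eq_or_ne x 1 with rfl | h1
  · exact IsPGroup.of_card (n := 0) (by simp)
  · exact IsPGroup.of_card (n := 1) (by rw [Nat.card_zpowers, orderOf_two h h1, pow_one])

theorem le_sylow_of_le_normalizer {Q : Subgroup G} (hQ : IsPGroup 2 Q) {S : Sylow 2 G}
    (h : Q ≤ normalizer ((S : Subgroup G) : Set G)) : Q ≤ (S : Subgroup G) := by
  have h1 := hQ.inf_normalizer_sylow S
  intro x hx
  have : x ∈ Q ⊓ normalizer ((S : Subgroup G) : Set G) := ⟨hx, h hx⟩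
  exact (h1.le this).2

variable (hyp : Hyp G)
include hyp

theorem Hyp.pgroup_le {S : Sylow 2 G} {Q : Subgroup G} (hQ : IsPGroup 2 Q)
    (hc : Q ≤ centralizer (Om S : Set G)) : Q ≤ (S : Subgroup G) :=
  le_sylow_of_le_normalizer hQ (hc.trans (hyp.cent S))

/-- An involution commuting with `Ω₁(Z(S))` lies in `S`. -/
theorem Hyp.mem_of_commute {S : Sylow 2 G} {x : G} (hx : x * x = 1)
    (hc : ∀ z ∈ Om S, Commute x z) : x ∈ (S : Subgroup G) := by
  refine hyp.pgroup_le (twoGroup_zpowers hx) ?_ (mem_zpowers x)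
  rintro _ ⟨i, rfl⟩
  exact mem_centralizer_iff.2 fun z hz => (((hc z hz).zpow_left i).eq).symm

/-- A Sylow subgroup centralizing `Ω₁(Z(S))` is `S`. -/
theorem Hyp.sylow_eq {S S' : Sylow 2 G} (h : (S' : Subgroup G) ≤ centralizer (Om S : Set G)) :
    S' = S := by
  have h1 : (S' : Subgroup G) ≤ (S : Subgroup G) := hyp.pgroup_le S'.isPGroup' h
  exact Sylow.ext ((eq_of_le_of_card_ge h1 (by
    rw [S.card_eq_multiplicity, S'.card_eq_multiplicity])))

omit hyp in
theorem exists_conj_mem_sylow (S : Sylow 2 G) {x : G} (hx : x * x = 1) :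
    ∃ g : G, x ∈ ((g • S : Sylow 2 G) : Subgroup G) := by
  have : Fact (Nat.Prime 2) := ⟨Nat.prime_two⟩
  obtain ⟨P, hP⟩ := (twoGroup_zpowers hx).exists_le_sylow
  obtain ⟨g, rfl⟩ := MulAction.exists_smul_eq G S P
  exact ⟨g, hP (mem_zpowers x)⟩

omit hyp in
theorem exists_conj_mem_sylow_of_le {S : Sylow 2 G} {M : Subgroup G} (hSM : (S : Subgroup G) ≤ M)
    {x : G} (hxM : x ∈ M) (hx : x * x = 1) :
    ∃ m ∈ M, x ∈ ((m • S : Sylow 2 G) : Subgroup G) := by
  have : Fact (Nat.Prime 2) := ⟨Nat.prime_two⟩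
  obtain ⟨P, hP⟩ := ((twoGroup_zpowers hx).comap_of_injective M.subtype M.subtype_injective).exists_le_sylow
  obtain ⟨m, rfl⟩ := MulAction.exists_smul_eq M (S.subtype hSM) P
  refine ⟨m, m.2, ?_⟩
  have h1 := hP (show (⟨x, hxM⟩ : M) ∈ (zpowers x).comap M.subtype from mem_zpowers x)
  rw [Sylow.smul_subtype, Sylow.coe_subtype] at h1
  exact mem_subgroupOf.1 h1

omit hyp in
theorem smul_le {S : Sylow 2 G} {M : Subgroup G} (hSM : (S : Subgroup G) ≤ M) {m : G} (hm : m ∈ M) :
    ((m • S : Sylow 2 G) : Subgroup G) ≤ M := fun x hx => by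
  have h := hSM ((CfsgLib.Transfer.mem_sylow_smul_iff m S x).1 hx)
  have h2 := mul_mem (mul_mem hm h) (inv_mem hm)
  simpa [mul_assoc] using h2

omit hyp in
theorem residual_mul (S : Sylow 2 G) (g : G) :
    ∃ h ∈ Cfsg.pResidual 2 G, ∃ s ∈ (S : Subgroup G), g = h * s := by
  have : Fact (Nat.Prime 2) := ⟨Nat.prime_two⟩
  haveI := CfsgLib.LocalStr.pResidual_normal G 2
  have h := CfsgLib.LocalStr.pResidual_sup_sylow S
  have hg : g ∈ Cfsg.pResidual 2 G ⊔ (S : Subgroup G) := by rw [h]; trivial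
  obtain ⟨a, ha, b, hb, rfl⟩ := mem_sup_of_normal_left.1 hg
  exact ⟨a, ha, b, hb, rfl⟩

theorem Hyp.exists_Om_residual (S : Sylow 2 G) :
    ∃ z ∈ Om S, z ≠ 1 ∧ z ∈ Cfsg.pResidual 2 G := by
  have : Fact (Nat.Prime 2) := ⟨Nat.prime_two⟩
  haveI hHn := CfsgLib.LocalStr.pResidual_normal G 2
  set H := Cfsg.pResidual 2 G with hH
  have heven : 2 ∣ Nat.card H := by
    by_contra hodd
    have hbot : H = ⊥ := by
      refine le_bot_iff.1 (hyp.oddCore ▸ ?_)
      exact le_sSup ⟨hHn, ((Nat.prime_two.coprime_iff_not_dvd).2 hodd).symm⟩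
    have hG : IsPGroup 2 (⊤ : Subgroup G) := by
      have h1 := CfsgLib.LocalStr.isPGroup_quotient_pResidual G 2
      intro g
      obtain ⟨k, hk⟩ := h1 (QuotientGroup.mk (g : G))
      refine ⟨k, Subtype.ext ?_⟩
      have h2 : (g : G) ^ 2 ^ k ∈ H := (QuotientGroup.eq_one_iff _).1 (by simpa using hk)
      rw [hbot, mem_bot] at h2
      simpa using h2
    have htop : (⊤ : Subgroup G) = ⊥ :=
      le_bot_iff.1 (hyp.twoCore ▸ le_sSup ⟨inferInstance, hG⟩)
    have := hyp.even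
    rw [← Subgroup.card_top (G := G), htop, Subgroup.card_bot] at this
    simp at this
  obtain ⟨⟨x, hxH⟩, hx⟩ := exists_prime_orderOf_dvd_card' 2 heven
  rw [Subgroup.orderOf_mk] at hx
  obtain ⟨g, hg⟩ := exists_conj_mem_sylow S (mul_self_of_two hx)
  have hyS : g⁻¹ * x * g ∈ (S : Subgroup G) := (CfsgLib.Transfer.mem_sylow_smul_iff g S x).1 hg
  have hne : H.subgroupOf (S : Subgroup G) ≠ ⊥ := by
    intro h
    have h1 : (⟨_, hyS⟩ : (S : Subgroup G)) ∈ H.subgroupOf (S : Subgroup G) :=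
      mem_subgroupOf.2 (by simpa [mul_assoc] using hHn.conj_mem x hxH g⁻¹)
    rw [h, mem_bot, Subtype.ext_iff] at h1
    apply ne_one_of_two hx
    have h2 : g * (g⁻¹ * x * g) * g⁻¹ = g * 1 * g⁻¹ := by rw [show g⁻¹ * x * g = 1 from h1]
    simpa [mul_assoc] using h2
  obtain ⟨c, hc, hc1⟩ :=
    CfsgLib.Solvable.exists_ne_one_mem_inf_center_of_normal S.isPGroup' hne
  -- an involution among the powers of `c`
  have hd : 2 ∣ orderOf c := by
    obtain ⟨k, hk⟩ := IsPGroup.iff_orderOf.1 S.isPGroup' c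
    rw [hk]
    refine dvd_pow_self 2 fun h => hc1 ?_
    rw [h, pow_zero] at hk
    exact orderOf_eq_one_iff.1 hk
  have hz2 : orderOf (c ^ (orderOf c / 2)) = 2 :=
    orderOf_pow_orderOf_div (orderOf_pos c).ne' hd
  have hzm : c ^ (orderOf c / 2) ∈ H.subgroupOf (S : Subgroup G) ⊓ center (S : Subgroup G) :=
    pow_mem hc _
  refine ⟨((c ^ (orderOf c / 2) : (S : Subgroup G)) : G), mem_Om.2 ⟨SetLike.coe_mem _, fun s hs => ?_, ?_⟩,
    ?_, mem_subgroupOf.1 hzm.1⟩
  · exact congrArg Subtype.val (mem_center_iff.1 hzm.2 ⟨s, hs⟩)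
  · exact mul_self_of_two (by rw [orderOf_coe]; exact hz2)
  · exact ne_one_of_two (by rw [orderOf_coe]; exact hz2)

/-- A proper subgroup containing `N(S)` and the centralizers of its involutions in `O²(G)` gives a
strongly embedded subgroup of `O²(G)`. -/
theorem Hyp.stronglyEmbedded_of {S : Sylow 2 G} {M : Subgroup G} (hM : M ≠ ⊤)
    (hN : normalizer ((S : Subgroup G) : Set G) ≤ M)
    (hc : ∀ t ∈ Cfsg.pResidual 2 G, t ∈ M → orderOf t = 2 → centralizer ({t} : Set G) ≤ M) :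
    ∃ M' : Subgroup ↥(Cfsg.pResidual 2 G), Cfsg.IsStronglyEmbedded M' := by
  have : Fact (Nat.Prime 2) := ⟨Nat.prime_two⟩
  haveI hHn := CfsgLib.LocalStr.pResidual_normal G 2
  set H := Cfsg.pResidual 2 G with hH
  have hSM : (S : Subgroup G) ≤ M := le_normalizer.trans hN
  refine ⟨M.subgroupOf H, ?_, ?_, ?_⟩
  · rw [Ne, subgroupOf_eq_top]
    intro hle
    refine hM (eq_top_iff.2 fun g _ => ?_)
    obtain ⟨a, ha, b, hb, rfl⟩ := residual_mul S g
    exact mul_mem (hle ha) (hSM hb)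
  · obtain ⟨z, hz, hz1, hzH⟩ := hyp.exists_Om_residual S
    have hz2 := orderOf_two (mem_Om.1 hz).2.2 hz1
    have h1 : (⟨z, hzH⟩ : H) ∈ M.subgroupOf H := mem_subgroupOf.2 (hSM (Om_le S hz))
    rw [even_iff_two_dvd, ← hz2, ← Subgroup.orderOf_mk z hzH]
    exact Subgroup.orderOf_dvd_natCard _ h1
  · rintro ⟨g, hgH⟩ hg
    rw [← Nat.not_even_iff_odd, even_iff_two_dvd]
    intro hdvd
    obtain ⟨⟨⟨t, htH⟩, htM, htmap⟩, ht⟩ := exists_prime_orderOf_dvd_card' 2 hdvd
    obtain ⟨⟨m, hmH⟩, hmM, hmt⟩ := mem_map.1 htmap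
    rw [← orderOf_coe] at ht
    change orderOf (⟨t, htH⟩ : H) = 2 at ht
    rw [Subgroup.orderOf_mk] at ht
    have hgt : g * m * g⁻¹ = t := congrArg Subtype.val hmt
    have hmM' : m ∈ M := mem_subgroupOf.1 hmM
    have hm2 : orderOf m = 2 := by rw [← orderOf_conj' g m, hgt]; exact ht
    -- centralizers of involutions on the conjugate
    have hc' : ∀ u : G, u ∈ H → orderOf u = 2 → g⁻¹ * u * g ∈ M → ∀ c ∈ centralizer ({u} : Set G),
        g⁻¹ * c * g ∈ M := by
      intro u huH hu2 huM c hcu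
      refine hc (g⁻¹ * u * g) (by simpa [mul_assoc] using hHn.conj_mem u huH g⁻¹) huM
        (by simpa using (orderOf_conj' g⁻¹ u).trans hu2) ?_
      have h := mem_centralizer_singleton_iff.1 hcu
      refine mem_centralizer_singleton_iff.2 ?_
      calc g⁻¹ * c * g * (g⁻¹ * u * g) = g⁻¹ * (c * u) * g := by group
        _ = g⁻¹ * (u * c) * g := by rw [h]
        _ = g⁻¹ * u * g * (g⁻¹ * c * g) := by group
    obtain ⟨a, ha, hta⟩ := exists_conj_mem_sylow_of_le hSM (mem_subgroupOf.1 htM) (mul_self_of_two ht)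
    obtain ⟨z, hz, hz1, hzH⟩ := hyp.exists_Om_residual (a • S)
    have hz2 := orderOf_two (mem_Om.1 hz).2.2 hz1
    have hzt : z ∈ centralizer ({t} : Set G) :=
      mem_centralizer_singleton_iff.2 ((mem_Om.1 hz).2.1 t hta).symm
    have hzg : g⁻¹ * z * g ∈ M := hc' t htH ht (by rw [← hgt]; simpa [mul_assoc] using hmM') z hzt
    have hS1 : ((g⁻¹ • (a • S) : Sylow 2 G) : Subgroup G) ≤ M := by
      intro x hx
      have hx' := (CfsgLib.Transfer.mem_sylow_smul_iff g⁻¹ (a • S) x).1 hx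
      rw [inv_inv] at hx'
      have := hc' z hzH hz2 hzg (g * x * g⁻¹)
        (mem_centralizer_singleton_iff.2 ((mem_Om.1 hz).2.1 _ hx'))
      simpa [mul_assoc] using this
    obtain ⟨m', hm', hmeq⟩ := CfsgLib.Transfer.exists_mem_smul_eq (g⁻¹ • (a • S)) S hS1 hSM
    rw [← mul_smul, ← mul_smul] at hmeq
    have h := hN (Sylow.smul_eq_iff_mem_normalizer.1 hmeq)
    refine hg (mem_subgroupOf.2 ?_)
    show g ∈ M
    have h2 : g⁻¹ ∈ M := by
      have := mul_mem (mul_mem (inv_mem hm') h) (inv_mem ha)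
      simpa [mul_assoc] using this
    simpa using inv_mem h2

omit hyp in
/-- Solvable centralizers with trivial cores give characteristic 2 type. -/
theorem charTwoType {K : Type*} [Group K] [Finite K] (heven : Even (Nat.card K))
    (hsol : ∀ t : K, orderOf t = 2 → Group.IsSolvable ↥(centralizer ({t} : Set K)))
    (hcore : ∀ t : K, orderOf t = 2 → Cfsg.pPrimeCore 2 ↥(centralizer ({t} : Set K)) = ⊥) :
    Cfsg.IsCharacteristicTwoType K := by
  haveI : Fact (Nat.Prime 2) := ⟨Nat.prime_two⟩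
  have hinv : ∀ x : K, orderOf x = 2 →
      CfsgLib.Even.HasCharP 2 (centralizer ({x} : Set K)) := fun x hx => by
    have := hsol x hx
    rw [CfsgLib.Even.hasCharP_iff]
    exact CfsgLib.Case.centralizer_pCore_le_of_solvable (hcore x hx)
  refine ⟨heven, fun T hT hne => ?_⟩
  haveI : Nontrivial ↥T := (Subgroup.nontrivial_iff_ne_bot T).mpr hne
  obtain ⟨n, hn, hcard⟩ := hT.nontrivial_iff_card.mp inferInstance
  obtain ⟨x, hx⟩ := exists_prime_orderOf_dvd_card' (G := ↥T) 2 (hcard ▸ dvd_pow_self 2 (by omega))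
  rw [← Subgroup.orderOf_coe] at hx
  have h1 := hinv _ hx
  rw [← CfsgLib.Even.centralizer_zpowers_eq] at h1
  exact (CfsgLib.Even.hasCharP_iff _).mp
    (CfsgLib.Even.hasCharP_normalizer_of_centralizer hT
      (CfsgLib.Even.hasCharP_centralizer_of_le hT (Subgroup.zpowers_le.mpr x.2) h1))

/-- The core condition on the involutions of a normal subgroup gives characteristic 2 type. -/
theorem Hyp.charTwoType_normal (N : Subgroup G) [N.Normal] (hNev : Even (Nat.card N))
    (hcore : ∀ t ∈ N, orderOf t = 2 → Cfsg.centralizerPPrimeCore 2 t = ⊥) :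
    Cfsg.IsCharacteristicTwoType N := by
  refine charTwoType hNev (fun t ht => ?_) fun t ht => ?_
  · have := hyp.solv (t : G) (by rwa [orderOf_coe])
    let f : centralizer ({t} : Set N) →* centralizer ({(t : G)} : Set G) :=
      (N.subtype.comp (centralizer ({t} : Set N)).subtype).codRestrict _ fun c =>
        mem_centralizer_singleton_iff.2 (congrArg Subtype.val (mem_centralizer_singleton_iff.1 c.2))
    exact Group.isSolvable_of_isSolvable_injective (f := f) fun a b h =>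
      Subtype.ext (Subtype.ext (congrArg (fun c : centralizer ({(t : G)} : Set G) => (c : G)) h))
  · set C := centralizer ({t} : Set N) with hC
    set D := ((Cfsg.pPrimeCore 2 ↥C).map C.subtype).map N.subtype with hD
    set K := N ⊓ centralizer ({(t : G)} : Set G) with hK
    haveI := CfsgLib.Solvable.pPrimeCore_normal 2 ↥C
    have hDK : D ≤ coreP 2 K := by
      refine le_coreP ?_ ?_ ?_
      · rintro _ ⟨_, ⟨c, -, rfl⟩, rfl⟩
        exact ⟨(c : N).2, mem_centralizer_singleton_iff.2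
          (congrArg Subtype.val (mem_centralizer_singleton_iff.1 c.2))⟩
      · rw [le_normalizer_iff]
        rintro k ⟨hkN, hkC⟩ _ ⟨_, ⟨c, hc, rfl⟩, rfl⟩
        have hk' : (⟨k, hkN⟩ : N) ∈ C := mem_centralizer_singleton_iff.2
          (Subtype.ext (mem_centralizer_singleton_iff.1 hkC))
        exact ⟨_, ⟨_, (inferInstance : (Cfsg.pPrimeCore 2 ↥C).Normal).conj_mem c hc ⟨_, hk'⟩, rfl⟩, rfl⟩
      · rw [hD, card_map_of_injective N.subtype_injective, card_map_of_injective C.subtype_injective]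
        exact CfsgLib.Solvable.pPrimeCore_card_coprime 2 ↥C
    have hKC : coreP 2 K ≤ coreP 2 (centralizer ({(t : G)} : Set G)) := by
      refine le_coreP ((coreP_le 2 K).trans inf_le_right) ?_ (coreP_coprime 2 K)
      refine le_trans ?_ (normalizer_le_normalizer_coreP 2 K)
      refine le_trans (le_inf ?_ le_normalizer) inf_normalizer_le_normalizer_inf
      exact le_top.trans (normalizer_eq_top N).ge
    have hbot : D = ⊥ := le_bot_iff.1 ((hDK.trans hKC).trans_eq
      (hcore t t.2 (by rwa [orderOf_coe])))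
    exact (map_eq_bot_iff_of_injective _ C.subtype_injective).1
      ((map_eq_bot_iff_of_injective _ N.subtype_injective).1 hbot)

end CfsgLib.SmithTwo
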