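import Cfsg.Agent.Lib.SmithTwo.Common
import Cfsg.Agent.Lib.PGroup.KulakoffTwo
import Cfsg.Agent.Lib.Invol.SmallInvolCentralizer
import Cfsg.Agent.Lib.Transfer.PGroup

/-!
Four-groups containing a conjugate of the central involution whose centralizer has no further
involution.
-/

set_option autoImplicit false
set_option linter.style.haveILetI false

open scoped Pointwise
open Subgroup
open scoped commutatorElement

namespace CfsgLib.SmithTwo

section SmallCentralizer

universe u

variable {P : Type u} [Group P] [Finite P]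

/-- A 2-group with a non-central involution `x` whose centralizer is `{1, z, x, zx}`. -/
theorem small_structure (hP : IsPGroup 2 P) {x z : P} (hx : orderOf x = 2) (hz : orderOf z = 2)
    (hzc : z ∈ center P) (hxc : x ∉ center P)
    (hC : ∀ y : P, y * x = x * y → y = 1 ∨ y = z ∨ y = x ∨ y = z * x) :
    ∃ M : Subgroup P, M.index = 2 ∧ (∀ m ∈ M, orderOf m = 2 → m = z ∨ IsConj x m) ∧
      ∀ A : Subgroup P, Cfsg.IsElementaryAbelian 2 A → Nat.card A < 8 := by
  classical
  have : Fact (Nat.Prime 2) := ⟨Nat.prime_two⟩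
  haveI : Group.IsNilpotent P := hP.isNilpotent
  have hxx : x * x = 1 := mul_self_of_two hx
  set D := commutator P with hD
  have hna : ¬ IsMulCommutative P := fun h =>
    hxc (mem_center_iff.2 fun g => h.is_comm.comm g x)
  -- the index of the commutator subgroup
  have hindex : 4 ≤ D.index := by
    obtain ⟨k, hk⟩ : ∃ k, D.index = 2 ^ k := by
      obtain ⟨n, hn⟩ := hP.exists_card_eq
      obtain ⟨k, -, hk⟩ := (Nat.dvd_prime_pow Nat.prime_two).1 (hn ▸ D.index_dvd_card)
      exact ⟨k, hk⟩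
    rcases Nat.lt_or_ge k 2 with h | h
    · exfalso
      have hdvd : (frattini P).index ∣ 2 ^ k :=
        hk ▸ index_dvd_of_le CfsgLib.Transfer.commutator_le_frattini
      have h2 : (frattini P).index = 1 ∨ (frattini P).index = 2 := by
        have : 2 ^ k ∣ 2 := by interval_cases k <;> norm_num
        exact (Nat.dvd_prime Nat.prime_two).1 (hdvd.trans this)
      haveI := CfsgLib.Kulakoff.isCyclic_of_frattini_index h2
      exact hna IsCyclic.isMulCommutative
    · rw [hk]
      calc 4 = 2 ^ 2 := by norm_num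
        _ ≤ 2 ^ k := Nat.pow_le_pow_right (by norm_num) h
  have hcardD : Nat.card D * 4 ≤ Nat.card P := by
    rw [← D.card_mul_index]
    exact Nat.mul_le_mul_left _ hindex
  set C := centralizer ({x} : Set P) with hCdef
  have hC4 : Nat.card C ≤ 4 := by
    have hsub : (C : Set P) ⊆ (({1, z, x, z * x} : Finset P) : Set P) := by
      intro y hy
      simpa using hC y (mem_centralizer_singleton_iff.1 hy)
    have h1 := Set.ncard_le_ncard hsub (Finset.finite_toSet _)
    rw [Set.ncard_coe_finset, ← Nat.card_coe_set_eq] at h1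
    exact h1.trans Finset.card_le_four
  -- every element of the coset of the commutator subgroup is a conjugate
  let f : P ⧸ C → D := fun q => ⟨⁅q.out, x⁆, by
    rw [hD, _root_.commutator_def]
    exact commutator_mem_commutator (mem_top _) (mem_top _)⟩
  have hf : Function.Injective f := by
    intro a b h
    have h1 : a.out * x * a.out⁻¹ * x⁻¹ = b.out * x * b.out⁻¹ * x⁻¹ := by
      have h' : ⁅a.out, x⁆ = ⁅b.out, x⁆ := congrArg Subtype.val h
      simpa [commutatorElement_def] using h'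
    rw [← a.out_eq, ← b.out_eq]
    refine QuotientGroup.eq.2 (mem_centralizer_singleton_iff.2 ?_)
    have h2 := mul_right_cancel h1
    calc a.out⁻¹ * b.out * x = a.out⁻¹ * (b.out * x * b.out⁻¹) * b.out := by group
      _ = a.out⁻¹ * (a.out * x * a.out⁻¹) * b.out := by rw [h2]
      _ = x * (a.out⁻¹ * b.out) := by group
  have hconj : ∀ d ∈ D, IsConj x (d * x) := by
    intro d hd
    have hle : Nat.card D ≤ Nat.card (P ⧸ C) := by
      have h1 := C.card_eq_card_quotient_mul_card_subgroup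
      have h2 : Nat.card D * 4 ≤ Nat.card (P ⧸ C) * 4 :=
        hcardD.trans (h1.trans_le (Nat.mul_le_mul_left _ hC4))
      omega
    obtain ⟨q, hq⟩ := (hf.bijective_of_nat_card_le hle).2 ⟨d, hd⟩
    have hq' : ⁅q.out, x⁆ = d := congrArg Subtype.val hq
    refine isConj_iff.2 ⟨q.out, ?_⟩
    rw [← hq', commutatorElement_def]
    group
  have hxD : x ∉ D := fun h => by
    obtain ⟨c, hc⟩ := isConj_iff.1 (hconj x h)
    rw [hxx, mul_inv_eq_iff_eq_mul, one_mul] at hc
    exact ne_one_of_two hx (mul_left_cancel (hc.trans (mul_one c).symm))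
  have hzD : z ∈ D := by
    have hne : D ≠ ⊥ := fun h => hna ⟨⟨fun a b => by
      have : ⁅a, b⁆ ∈ D := by
        rw [hD, _root_.commutator_def]; exact commutator_mem_commutator (mem_top _) (mem_top _)
      rw [h, mem_bot, commutatorElement_eq_one_iff_mul_comm] at this
      exact this⟩⟩
    obtain ⟨c, hc, hc1⟩ := CfsgLib.Solvable.exists_ne_one_mem_inf_center_of_normal hP hne
    have hd : 2 ∣ orderOf c := by
      obtain ⟨k, hk⟩ := IsPGroup.iff_orderOf.1 hP c
      rw [hk]
      refine dvd_pow_self 2 fun h => hc1 ?_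
      rw [h, pow_zero] at hk
      exact orderOf_eq_one_iff.1 hk
    have hw : orderOf (c ^ (orderOf c / 2)) = 2 := orderOf_pow_orderOf_div (orderOf_pos c).ne' hd
    have hwm : c ^ (orderOf c / 2) ∈ D ⊓ center P := pow_mem hc _
    rcases hC _ (mem_center_iff.1 hwm.2 x).symm with h | h | h | h
    · exact absurd h (ne_one_of_two hw)
    · exact h ▸ hwm.1
    · exact absurd (h ▸ hwm.2) hxc
    · refine absurd ?_ hxc
      have := mul_mem (inv_mem hzc) (h ▸ hwm.2 : z * x ∈ center P)
      rwa [inv_mul_cancel_left] at this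
  have hinvD : ∀ d ∈ D, orderOf d = 2 → d = z := by
    intro d hd hd2
    obtain ⟨c, hc⟩ := isConj_iff.1 (hconj d hd)
    have h1 : (d * x) * (d * x) = 1 := by
      rw [← hc, show c * x * c⁻¹ * (c * x * c⁻¹) = c * (x * x) * c⁻¹ by group, hxx]
      group
    have h2 : d * x = x * d := by
      have e1 : (d * x)⁻¹ = d * x := inv_eq_of_mul_eq_one_right h1
      rw [mul_inv_rev, inv_eq_of_mul_eq_one_right hxx,
        inv_eq_of_mul_eq_one_right (mul_self_of_two hd2)] at e1
      exact e1.symm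
    rcases hC d h2 with h | h | h | h
    · exact absurd h (ne_one_of_two hd2)
    · exact h
    · exact absurd (h ▸ hd) hxD
    · refine absurd ?_ hxD
      have := mul_mem (inv_mem hzD) (h ▸ hd : z * x ∈ D)
      rwa [inv_mul_cancel_left] at this
  set π := QuotientGroup.mk' D with hπ
  have hπs : Function.Surjective π := QuotientGroup.mk'_surjective D
  have hπker : ∀ p, π p = 1 ↔ p ∈ D := fun p => QuotientGroup.eq_one_iff p
  have hQ : Nat.card (P ⧸ D) = 4 := by
    rw [← index_eq_card]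
    refine le_antisymm ?_ hindex
    have h1 := C.card_eq_card_quotient_mul_card_subgroup
    have h2 := Nat.card_le_card_of_injective f hf
    have h3 := D.card_mul_index
    have h4 : Nat.card P ≤ Nat.card D * 4 := h1.trans_le (Nat.mul_le_mul h2 hC4)
    rw [← h3] at h4
    exact Nat.le_of_mul_le_mul_left h4 Nat.card_pos
  have hπx : orderOf (π x) = 2 :=
    orderOf_two (by rw [← map_mul, hxx, map_one]) fun h => hxD ((hπker x).1 h)
  refine ⟨(zpowers (π x)).comap π, ?_, fun m hm hm2 => ?_, fun A hA => ?_⟩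
  · rw [index_comap_of_surjective _ hπs]
    have := (zpowers (π x)).card_mul_index
    rw [Nat.card_zpowers, hπx, hQ] at this
    omega
  · obtain ⟨i, hi⟩ : π m ∈ zpowers (π x) := hm
    simp only at hi
    rcases Int.even_or_odd i with ⟨k, rfl⟩ | ⟨k, rfl⟩
    · refine Or.inl (hinvD m ((hπker m).1 ?_) hm2)
      rw [← hi, zpow_add, ← Commute.mul_zpow (Commute.refl _), ← map_mul, hxx, map_one, one_zpow]
    · refine Or.inr ?_
      have h1 : m * x ∈ D := by
        rw [← hπker, map_mul, ← hi, zpow_add, zpow_one, two_mul, zpow_add,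
          ← Commute.mul_zpow (Commute.refl _), ← map_mul, hxx, map_one, one_zpow, one_mul, ← map_mul, hxx, map_one]
      have := hconj _ h1
      rwa [mul_assoc, hxx, mul_one] at this
  · by_contra hlt
    push Not at hlt
    set ψ := π.comp A.subtype with hψ
    have hker : Nat.card ψ.ker ≤ 2 := by
      refine (Nat.card_le_card_of_injective
        (fun a : ψ.ker => (⟨((a : A) : P), ?_⟩ : zpowers z)) ?_).trans ?_
      · rcases eq_or_ne ((a : A) : P) 1 with h | h
        · rw [h]; exact one_mem _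
        · have hz' : ((a : A) : P) = z :=
            hinvD _ ((hπker _).1 a.2) (orderOf_two (by rw [← pow_two]; exact hA.2 _ a.1.2) h)
          rw [hz']
          exact mem_zpowers z
      · intro a b h
        exact Subtype.ext (Subtype.ext (congrArg (fun y : zpowers z => (y : P)) h))
      · rw [Nat.card_zpowers, hz]
    have h1 := Subgroup.card_eq_card_quotient_mul_card_subgroup ψ.ker
    rw [Nat.card_congr (QuotientGroup.quotientKerEquivRange ψ).toEquiv] at h1
    have hr : Nat.card ψ.range ≤ 4 := hQ ▸ card_le_card_group ψ.range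
    have hprod : Nat.card ψ.range * Nat.card ψ.ker ≤ Nat.card ψ.range * 2 := Nat.mul_le_mul_left _ hker
    have hr4 : Nat.card ψ.range = 4 := by omega
    have htop : ψ.range = ⊤ := eq_top_of_card_eq _ (by rw [hr4, hQ])
    obtain ⟨a, ha⟩ : π x ∈ ψ.range := by rw [htop]; trivial
    have haD : (a : P) * x ∈ D := by
      rw [← hπker, map_mul, show π (a : P) = π x from ha, ← map_mul, hxx, map_one]
    obtain ⟨c, hc⟩ := isConj_iff.1 (hconj _ haD)
    rw [mul_assoc (a : P) x x, hxx, mul_one] at hc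
    have hAC : A ≤ C.map (MulAut.conj c).toMonoidHom := by
      intro b hb
      refine ⟨c⁻¹ * b * c, mem_centralizer_singleton_iff.2 ?_, by simp [mul_assoc]⟩
      have hcomm : (a : P) * b = b * a := congrArg Subtype.val (hA.1.is_comm.comm a ⟨b, hb⟩)
      calc c⁻¹ * b * c * x = c⁻¹ * (b * (c * x * c⁻¹)) * c := by group
        _ = c⁻¹ * (c * x * c⁻¹ * b) * c := by rw [hc, hcomm]
        _ = x * (c⁻¹ * b * c) := by group
    have := (Subgroup.card_le_of_le hAC).trans
      ((card_map_of_injective (MulAut.conj c).injective).trans_le hC4)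
    omega

end SmallCentralizer

variable {G : Type*} [Group G] [Finite G]

/-- `⟨z, x⟩` lies in no elementary abelian group of order eight: its centralizer has no further
involutions. -/
def Only (z x : G) : Prop :=
  ∀ t : G, t * t = 1 → t * z = z * t → t * x = x * t → t = 1 ∨ t = z ∨ t = x ∨ t = z * x

theorem Only.symm {z x : G} (h : Only z x) (hzx : z * x = x * z) : Only x z := by
  intro t ht htx htz
  rcases h t ht htz htx with h' | h' | h' | h'
  · exact Or.inl h'
  · exact Or.inr (Or.inr (Or.inl h'))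
  · exact Or.inr (Or.inl h')
  · exact Or.inr (Or.inr (Or.inr (h'.trans hzx)))

theorem Only.conj {z x : G} (h : Only z x) (g : G) : Only (g * z * g⁻¹) (g * x * g⁻¹) := by
  intro t ht htz htx
  have ht' : g⁻¹ * t * g * (g⁻¹ * t * g) = 1 := by
    rw [show g⁻¹ * t * g * (g⁻¹ * t * g) = g⁻¹ * (t * t) * g by group, ht]; group
  have hz' : g⁻¹ * t * g * z = z * (g⁻¹ * t * g) := by
    calc g⁻¹ * t * g * z = g⁻¹ * (t * (g * z * g⁻¹)) * g := by group
      _ = g⁻¹ * (g * z * g⁻¹ * t) * g := by rw [htz]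
      _ = z * (g⁻¹ * t * g) := by group
  have hx' : g⁻¹ * t * g * x = x * (g⁻¹ * t * g) := by
    calc g⁻¹ * t * g * x = g⁻¹ * (t * (g * x * g⁻¹)) * g := by group
      _ = g⁻¹ * (g * x * g⁻¹ * t) * g := by rw [htx]
      _ = x * (g⁻¹ * t * g) := by group
  have e : t = g * (g⁻¹ * t * g) * g⁻¹ := by group
  rcases h _ ht' hz' hx' with h' | h' | h' | h'
  · exact Or.inl (by rw [e, h']; group)
  · exact Or.inr (Or.inl (by rw [e, h']))
  · exact Or.inr (Or.inr (Or.inl (by rw [e, h'])))
  · exact Or.inr (Or.inr (Or.inr (by rw [e, h']; group)))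

/-- Proper inclusion at least doubles the order. -/
theorem two_mul_card_le {A B : Subgroup G} (h : A < B) : 2 * Nat.card A ≤ Nat.card B := by
  obtain ⟨k, hk⟩ := card_dvd_of_le h.le
  have hlt : Nat.card A < Nat.card B :=
    lt_of_le_of_ne (Subgroup.card_le_of_le h.le) fun e => h.ne (eq_of_le_of_card_ge h.le e.ge)
  rw [hk] at hlt ⊢
  have : 2 ≤ k := by
    by_contra hk2
    interval_cases k <;> simp at hlt
  rw [mul_comm]
  exact Nat.mul_le_mul_left _ this

theorem exists_normalizing {P K : Subgroup G} (hP : IsPGroup 2 P) (hKP : K < P) :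
    ∃ s ∈ P, s ∉ K ∧ ∀ k ∈ K, s * k * s⁻¹ ∈ K := by
  have : Fact (Nat.Prime 2) := ⟨Nat.prime_two⟩
  haveI : Group.IsNilpotent P := hP.isNilpotent
  have hlt : K.subgroupOf P < ⊤ :=
    lt_top_iff_ne_top.2 fun h => hKP.not_ge (subgroupOf_eq_top.1 h)
  obtain ⟨s, hsn, hsK⟩ :=
    SetLike.exists_of_lt (Group.normalizerCondition_of_isNilpotent (K.subgroupOf P) hlt)
  refine ⟨s, s.2, fun h => hsK (mem_subgroupOf.2 h), fun k hk => ?_⟩
  have := ((mem_normalizer_iff.1 hsn) ⟨k, hKP.le hk⟩).1 (mem_subgroupOf.2 hk)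
  exact mem_subgroupOf.1 this

/-- `z` is the only involution of `Ω₁(Z(S))`. -/
def Center2 (S : Sylow 2 G) (z : G) : Prop :=
  orderOf z = 2 ∧ z ∈ Om S ∧ ∀ t ∈ Om S, t = 1 ∨ t = z

theorem Center2.comm {S : Sylow 2 G} {z : G} (h : Center2 S z) {s : G} (hs : s ∈ (S : Subgroup G)) :
    s * z = z * s := (mem_Om.1 h.2.1).2.1 s hs

theorem Center2.mem {S : Sylow 2 G} {z : G} (h : Center2 S z) : z ∈ (S : Subgroup G) :=
  Om_le S h.2.1

theorem Center2.smul {S : Sylow 2 G} {z : G} (h : Center2 S z) (g : G) :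
    Center2 (g • S) (g * z * g⁻¹) := by
  refine ⟨(orderOf_conj' g z).trans h.1, mem_Om_smul.2 ?_, fun t ht => ?_⟩
  · rw [show g⁻¹ * (g * z * g⁻¹) * g = z by group]; exact h.2.1
  · have e : t = g * (g⁻¹ * t * g) * g⁻¹ := by group
    rcases h.2.2 _ (mem_Om_smul.1 ht) with h' | h'
    · exact Or.inl (by rw [e, h']; group)
    · exact Or.inr (by rw [e, h'])

variable (hyp : Hyp G)
include hyp

theorem Center2.pgroup_le {S : Sylow 2 G} {z : G} (h : Center2 S z) {Q : Subgroup G}
    (hQ : IsPGroup 2 Q) (hc : ∀ q ∈ Q, q * z = z * q) : Q ≤ (S : Subgroup G) := by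
  refine hyp.pgroup_le hQ fun q hq => mem_centralizer_iff.2 fun t ht => ?_
  rcases h.2.2 t ht with rfl | rfl
  · simp
  · exact (hc q hq).symm

theorem Center2.mem_of_comm {S : Sylow 2 G} {z : G} (h : Center2 S z) {t : G} (ht : t * t = 1)
    (hc : t * z = z * t) : t ∈ (S : Subgroup G) := by
  refine h.pgroup_le hyp (twoGroup_zpowers ht) ?_ (mem_zpowers t)
  rintro _ ⟨i, rfl⟩
  exact ((show Commute t z from hc).zpow_left i).eq

omit hyp in
/-- The product of two commuting conjugates of `z` spanning an `Only` four-group is conjugate to `z`. -/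
theorem isConj_mul {S : Sylow 2 G} {z x : G} (hyp : Hyp G) (hS : Center2 S z) (hx : IsConj z x)
    (hne : x ≠ z) (hcomm : x * z = z * x) (ho : Only z x) : IsConj z (z * x) := by
  obtain ⟨g, rfl⟩ := isConj_iff.1 hx
  have hS' := hS.smul g
  set x := g * z * g⁻¹ with hxdef
  have hzz : z * z = 1 := mul_self_of_two hS.1
  have hzS' := hS'.mem_of_comm hyp hzz hcomm.symm
  have hlt : (((g • S : Sylow 2 G) : Subgroup G) ⊓ centralizer ({z} : Set G)) <
      ((g • S : Sylow 2 G) : Subgroup G) := by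
    refine lt_of_le_of_ne inf_le_left fun h => ?_
    have hzOm : z ∈ Om (g • S) := mem_Om.2 ⟨hzS', fun s hs =>
      mem_centralizer_singleton_iff.1 (h.ge hs).2, hzz⟩
    rcases hS'.2.2 z hzOm with h' | h'
    · exact ne_one_of_two hS.1 h'
    · exact hne h'.symm
  obtain ⟨s, hs, hsC, hsn⟩ := exists_normalizing (g • S).isPGroup' hlt
  have hw := hsn z ⟨hzS', mem_centralizer_singleton_iff.2 rfl⟩
  have hsx : s * x = x * s := hS'.comm hs
  have hw2 : s * z * s⁻¹ * (s * z * s⁻¹) = 1 := by
    rw [show s * z * s⁻¹ * (s * z * s⁻¹) = s * (z * z) * s⁻¹ by group, hzz]; group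
  have hwx : s * z * s⁻¹ * x = x * (s * z * s⁻¹) := hS'.comm hw.1
  rcases ho _ hw2 (mem_centralizer_singleton_iff.1 hw.2) hwx with h | h | h | h
  · exfalso
    refine ne_one_of_two hS.1 ?_
    rw [show z = s⁻¹ * (s * z * s⁻¹) * s by group, h]; group
  · exfalso
    exact hsC ⟨hs, mem_centralizer_singleton_iff.2 (mul_inv_eq_iff_eq_mul.1 h)⟩
  · exfalso
    refine hne ?_
    have h' := mul_inv_eq_iff_eq_mul.1 h
    rw [← hsx] at h'
    exact (mul_left_cancel h').symm
  · exact isConj_iff.2 ⟨s, h⟩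

/-- Either a four-group `⟨z, v⟩` of conjugates is normal in `S`, or `x` has centralizer of order four
in `S`. -/
theorem normal_four_or_small {S : Sylow 2 G} {z x : G} (hS : Center2 S z)
    (hxS : x ∈ (S : Subgroup G)) (hx : IsConj z x) (hne : x ≠ z) (ho : Only z x) :
    (∃ v ∈ (S : Subgroup G), IsConj z v ∧ v ≠ z ∧ Only z v ∧
      ∀ s ∈ (S : Subgroup G), s * v * s⁻¹ = v ∨ s * v * s⁻¹ = z * v) ∨
    (∀ y ∈ (S : Subgroup G), y * x = x * y → y = 1 ∨ y = z ∨ y = x ∨ y = z * x) := by
  have : Fact (Nat.Prime 2) := ⟨Nat.prime_two⟩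
  by_cases hb : ∀ y ∈ (S : Subgroup G), y * x = x * y → y * y = 1
  · exact Or.inr fun y hy hyx => ho y (hb y hy hyx) (hS.comm hy) hyx
  left
  push Not at hb
  obtain ⟨y, hy, hyx, hy2⟩ := hb
  have hxx : x * x = 1 := by
    obtain ⟨g, rfl⟩ := isConj_iff.1 hx
    rw [show g * z * g⁻¹ * (g * z * g⁻¹) = g * (z * z) * g⁻¹ by group, mul_self_of_two hS.1]
    group
  have hx2 : orderOf x = 2 := by
    obtain ⟨g, rfl⟩ := isConj_iff.1 hx
    exact (orderOf_conj' g z).trans hS.1
  have hzz : z * z = 1 := mul_self_of_two hS.1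
  have hxz : x * z = z * x := hS.comm hxS
  obtain ⟨k, hk⟩ := CfsgLib.Invol.SmallCent.exists_four_power S.isPGroup'
    (c := (⟨y, hy⟩ : (S : Subgroup G))) (fun h => hy2 (congrArg Subtype.val h))
  rw [← orderOf_coe] at hk
  set q : G := y ^ k with hq
  have hq4 : orderOf q = 4 := by rw [hq, ← hk]; rfl
  have hqS : q ∈ (S : Subgroup G) := pow_mem hy k
  have hqx : q * x = x * q := ((show Commute y x from hyx).pow_left k).eq
  have ha2 : orderOf (q * q) = 2 := by
    rw [← pow_two, orderOf_pow' q two_ne_zero, hq4]; norm_num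
  -- a square conjugate `v`
  obtain ⟨v, hvJ, hvne, hov, q₁, hq₁, hq₁v⟩ : ∃ v : G, IsConj z v ∧ v ≠ z ∧ Only z v ∧
      ∃ q₁ ∈ (S : Subgroup G), q₁ * q₁ = v := by
    rcases ho (q * q) (mul_self_of_two ha2) (hS.comm (mul_mem hqS hqS))
      (((show Commute q x from hqx).mul_left hqx).eq) with h | h | h | h
    · exact absurd h (ne_one_of_two ha2)
    · obtain ⟨g, hg⟩ := isConj_iff.1 hx
      have hpS : g⁻¹ * q * g ∈ (S : Subgroup G) := by
        refine hS.pgroup_le hyp (Q := zpowers (g⁻¹ * q * g)) ?_ ?_ (mem_zpowers _)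
        · refine IsPGroup.of_card (n := 2) ?_
          rw [Nat.card_zpowers, show g⁻¹ * q * g = g⁻¹ * q * g⁻¹⁻¹ by group, orderOf_conj', hq4]
          norm_num
        · rintro _ ⟨i, rfl⟩
          refine ((show Commute (g⁻¹ * q * g) z from ?_).zpow_left i).eq
          show g⁻¹ * q * g * z = z * (g⁻¹ * q * g)
          calc g⁻¹ * q * g * z = g⁻¹ * (q * (g * z * g⁻¹)) * g := by group
            _ = g⁻¹ * (g * z * g⁻¹ * q) * g := by rw [hg, hqx]
            _ = z * (g⁻¹ * q * g) := by group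
      have e1 : g⁻¹ * z * g⁻¹⁻¹ = g⁻¹ * z * g := by group
      refine ⟨g⁻¹ * z * g, isConj_iff.2 ⟨g⁻¹, e1⟩, fun h' => hne ?_, ?_, _, hpS, ?_⟩
      · rw [← hg]
        calc g * z * g⁻¹ = g * (g⁻¹ * z * g) * g⁻¹ := by rw [h']
          _ = z := by group
      · have h3 := (ho.symm hxz.symm).conj g⁻¹
        rwa [e1, ← hg, show g⁻¹ * (g * z * g⁻¹) * g⁻¹⁻¹ = z by group] at h3
      · rw [← h]; group
    · exact ⟨x, hx, hne, ho, q, hqS, h⟩
    · refine ⟨z * x, isConj_mul hyp hS hx hne hxz ho, fun h' => ne_one_of_two hx2 ?_, ?_, q, hqS, h⟩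
      · exact mul_left_cancel (h'.trans (mul_one z).symm)
      · intro t ht htz htzx
        have htx : t * x = x * t := by
          have h1 := (show Commute t z from htz).mul_right (show Commute t (z * x) from htzx)
          rw [← mul_assoc, hzz, one_mul] at h1
          exact h1.eq
        rcases ho t ht htz htx with h' | h' | h' | h'
        · exact Or.inl h'
        · exact Or.inr (Or.inl h')
        · exact Or.inr (Or.inr (Or.inr (by rw [← mul_assoc, hzz, one_mul, h'])))
        · exact Or.inr (Or.inr (Or.inl h'))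
  have hvS : v ∈ (S : Subgroup G) := hq₁v ▸ mul_mem hq₁ hq₁
  have hvv : v * v = 1 := by
    obtain ⟨g, rfl⟩ := isConj_iff.1 hvJ
    rw [show g * z * g⁻¹ * (g * z * g⁻¹) = g * (z * z) * g⁻¹ by group, hzz]; group
  refine ⟨v, hvS, hvJ, hvne, hov, ?_⟩
  have hsz : ∀ s ∈ (S : Subgroup G), s * (z * v) * s⁻¹ = z * (s * v * s⁻¹) := fun s hs => by
    calc s * (z * v) * s⁻¹ = (s * z) * v * s⁻¹ := by group
      _ = (z * s) * v * s⁻¹ := by rw [hS.comm hs]
      _ = z * (s * v * s⁻¹) := by group
  let N : Subgroup G :=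
    { carrier := {s | s ∈ (S : Subgroup G) ∧ (s * v * s⁻¹ = v ∨ s * v * s⁻¹ = z * v)}
      one_mem' := ⟨one_mem _, Or.inl (by group)⟩
      mul_mem' := by
        rintro a b ⟨ha, hav⟩ ⟨hb, hbv⟩
        refine ⟨mul_mem ha hb, ?_⟩
        rw [show a * b * v * (a * b)⁻¹ = a * (b * v * b⁻¹) * a⁻¹ by group]
        rcases hbv with h | h <;> rw [h]
        · exact hav
        · rw [hsz a ha]
          rcases hav with h' | h' <;> rw [h']
          · exact Or.inr rfl
          · exact Or.inl (by rw [← mul_assoc, hzz, one_mul])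
      inv_mem' := by
        rintro a ⟨ha, hav⟩
        refine ⟨inv_mem ha, ?_⟩
        rcases hav with h | h
        · exact Or.inl (by
            have := mul_inv_eq_iff_eq_mul.1 h
            rw [inv_inv, mul_assoc, ← this, inv_mul_cancel_left])
        · refine Or.inr ?_
          have h1 : a * (z * v) * a⁻¹ = v := by rw [hsz a ha, h, ← mul_assoc, hzz, one_mul]
          calc a⁻¹ * v * a⁻¹⁻¹ = a⁻¹ * (a * (z * v) * a⁻¹) * a := by rw [h1]; group
            _ = z * v := by group }
  suffices h : (S : Subgroup G) ≤ N from fun s hs => (h hs).2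
  by_contra hnle
  have hNS : N < (S : Subgroup G) :=
    lt_of_le_of_ne (fun s hs => hs.1) fun h => hnle h.ge
  obtain ⟨s, hs, hsN, hsn⟩ := exists_normalizing S.isPGroup' hNS
  have hq1N : q₁ ∈ N := ⟨hq₁, Or.inl (by rw [← hq₁v]; group)⟩
  obtain ⟨hq'S, hq'⟩ := hsn q₁ hq1N
  set q' := s * q₁ * s⁻¹ with hq'def
  have hsq : q' * q' * v * (q' * q')⁻¹ = v := by
    rw [show q' * q' * v * (q' * q')⁻¹ = q' * (q' * v * q'⁻¹) * q'⁻¹ by group]
    rcases hq' with h | h <;> rw [h]
    · exact h
    · rw [hsz q' hq'S, h, ← mul_assoc, hzz, one_mul]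
  have hv' : q' * q' = s * v * s⁻¹ := by rw [hq'def, ← hq₁v]; group
  rw [hv'] at hsq
  have hv'2 : s * v * s⁻¹ * (s * v * s⁻¹) = 1 := by
    rw [show s * v * s⁻¹ * (s * v * s⁻¹) = s * (v * v) * s⁻¹ by group, hvv]; group
  rcases hov _ hv'2 (hS.comm (mul_mem (mul_mem hs hvS) (inv_mem hs)))
    (mul_inv_eq_iff_eq_mul.1 hsq) with h | h | h | h
  · refine ne_one_of_two (x := v) ?_ ?_
    · obtain ⟨g, rfl⟩ := isConj_iff.1 hvJ
      exact (orderOf_conj' g z).trans hS.1
    · rw [show v = s⁻¹ * (s * v * s⁻¹) * s by group, h]; group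
  · refine hvne ?_
    rw [show v = s⁻¹ * (s * v * s⁻¹) * s by group, h, mul_assoc, ← hS.comm hs, inv_mul_cancel_left]
  · exact hsN ⟨hs, Or.inl h⟩
  · exact hsN ⟨hs, Or.inr h⟩

end CfsgLib.SmithTwo
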