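import Cfsg.Agent.Lib.Transfer.Focal

/-!
The Thompson transfer lemma for involutions of `O²(G)`.
-/

set_option autoImplicit false

open scoped Pointwise
open Subgroup Cfsg CfsgLib.Transfer

namespace CfsgLib.SmithTwo

variable {G : Type*} [Group G]

/-- **Thompson transfer lemma** for an involution in `O²(G)`. -/
theorem exists_conj_mem_of_mem_pResidual [Finite G] (T : Sylow 2 G)
    (M : Subgroup (T : Subgroup G)) (hM : M.index = 2) (u : G) (h : u ∈ pResidual 2 G) (hu : u ^ 2 = 1) :
    ∃ (g : G) (hg : g * u * g⁻¹ ∈ (T : Subgroup G)), (⟨g * u * g⁻¹, hg⟩ : (T : Subgroup G)) ∈ M := by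
  classical
  by_contra hne
  have : M.Normal := Subgroup.normal_of_index_eq_two hM
  have h2 : Nat.card ((T : Subgroup G) ⧸ M) = 2 := hM
  have hA : ∀ a b : (T : Subgroup G) ⧸ M, a * b = b * a := by
    have := (isCyclic_of_prime_card (hp := ⟨Nat.prime_two⟩) h2)
    exact fun a b => mul_comm' a b
  let : CommGroup ((T : Subgroup G) ⧸ M) := { (inferInstance : Group _) with mul_comm := hA }
  have : Fintype (Quotient (MulAction.orbitRel (Subgroup.zpowers u) (G ⧸ (T : Subgroup G)))) :=
    Fintype.ofFinite _
  let V := MonoidHom.transfer (QuotientGroup.mk' M)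
  have hV : V u = 1 := by
    have h1 := pResidual_le_ker_of_isPGroup (p := 2) (G := G) (T.2.to_quotient M) V
    exact h1 h
  obtain ⟨s, hs⟩ : ∃ s : (T : Subgroup G) ⧸ M, s ≠ 1 := by
    have : Nontrivial ((T : Subgroup G) ⧸ M) :=
      Finite.one_lt_card_iff_nontrivial.mp (by omega)
    exact exists_ne 1
  have hall : ∀ a : (T : Subgroup G) ⧸ M, a = 1 ∨ a = s := fun a => by
    by_contra hcon
    rw [not_or] at hcon
    have hle : Fintype.card (Fin 3) ≤ Nat.card ((T : Subgroup G) ⧸ M) := by
      rw [← Nat.card_eq_fintype_card]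
      refine Nat.card_le_card_of_injective ![1, s, a] ?_
      intro i j hij
      fin_cases i <;> fin_cases j <;> simp [hcon.1, hcon.2, hs, Ne.symm hcon.1, Ne.symm hcon.2, Ne.symm hs] at hij ⊢
    simp only [Fintype.card_fin] at hle
    omega
  have hs2 : s ^ 2 = 1 := by
    have := pow_card_eq_one' (x := s)
    rwa [h2] at this
  let per : Quotient (MulAction.orbitRel (Subgroup.zpowers u) (G ⧸ (T : Subgroup G))) → ℕ :=
    fun q => Function.minimalPeriod (u • ·) q.out
  have hterm : ∀ q, (QuotientGroup.mk' M) (⟨q.out.out⁻¹ * u ^ per q * q.out.out,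
      QuotientGroup.out_conj_pow_minimalPeriod_mem (T : Subgroup G) u q.out⟩) = s ^ per q := by
    intro q
    have hd : per q ∣ 2 := by
      refine Function.IsPeriodicPt.minimalPeriod_dvd ?_
      change ((u • ·)^[2]) q.out = q.out
      rw [smul_iterate_apply, hu, one_smul]
    rcases (Nat.dvd_prime Nat.prime_two).mp hd with h3 | h3
    · have hmem : q.out.out⁻¹ * u * q.out.out ∈ (T : Subgroup G) := by
        have := QuotientGroup.out_conj_pow_minimalPeriod_mem (T : Subgroup G) u q.out
        rwa [show Function.minimalPeriod (u • ·) q.out = 1 from h3, pow_one] at this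
      have e : QuotientGroup.mk' M ⟨q.out.out⁻¹ * u * q.out.out, hmem⟩ = s :=
        (hall _).resolve_left fun he => hne ⟨q.out.out⁻¹, by simpa using hmem,
          by simpa using (QuotientGroup.eq_one_iff _).mp he⟩
      rw [show s ^ per q = s by rw [h3, pow_one], ← e]
      congr 1
      exact Subtype.ext (by simp [h3])
    · rw [show s ^ per q = 1 by rw [h3, hs2]]
      convert map_one (QuotientGroup.mk' M)
      exact (congrArg (fun k => q.out.out⁻¹ * u ^ k * q.out.out) h3).trans (by simp [hu])
  have h4 : V u = s ^ (T : Subgroup G).index := by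
    rw [MonoidHom.transfer_eq_prod_quotient_orbitRel_zpowers_quot,
      Finset.prod_congr rfl (fun q _ => hterm q), Finset.prod_pow_eq_pow_sum]
    congr 1
    exact (Subgroup.index_eq_sum_minimalPeriod (T : Subgroup G) u).symm
  obtain ⟨k, hk⟩ : Odd (T : Subgroup G).index := by
    rw [← Nat.not_even_iff_odd, even_iff_two_dvd]
    exact T.not_dvd_index
  rw [hV, hk, pow_succ, pow_mul, hs2, one_pow, one_mul] at h4
  exact hs h4.symm

/-- An involution without conjugates in a maximal subgroup of a Sylow 2-subgroup is outside `O²(G)`. -/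
theorem notMem_pResidual [Finite G] (T : Sylow 2 G) (M : Subgroup G) (hM : M.relIndex (T : Subgroup G) = 2)
    {u : G} (hu : u * u = 1) (h : ∀ g : G, g * u * g⁻¹ ∈ M → False) : u ∉ pResidual 2 G := by
  intro hmem
  obtain ⟨g, hg, hgM⟩ := exists_conj_mem_of_mem_pResidual T (M.subgroupOf (T : Subgroup G)) hM u hmem
    (by rw [pow_two]; exact hu)
  exact h g (mem_subgroupOf.1 hgM)

end CfsgLib.SmithTwo
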