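import Cfsg.Agent.Lib.SmithTwo.SmallRank
import Cfsg.Agent.Lib.Signalizer.SolvableFunctor
import Cfsg.Agent.Lib.Invol.NormalFour

/-!
The case of 2-rank at least three.
-/

set_option autoImplicit false
set_option linter.style.haveILetI false
set_option linter.unusedSectionVars false
set_option linter.unusedVariables false

open scoped Pointwise
open Subgroup CfsgLib.Balance

namespace CfsgLib.SmithTwo

variable {G : Type*} [Group G] [Finite G]

/-- An elementary abelian subgroup of order at least eight. -/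
abbrev Big (A : Subgroup G) : Prop := Cfsg.IsElementaryAbelian 2 A ∧ 2 ^ 3 ≤ Nat.card A

theorem Big.map {A : Subgroup G} (hA : Big A) (g : G) : Big (A.map (MulAut.conj g).toMonoidHom) :=
  ⟨CfsgLib.Signalizer.Connected.elementary_map hA.1 _, by
    rw [card_map_of_injective (MulAut.conj g).injective]; exact hA.2⟩

theorem map_conj_le_smul {A : Subgroup G} {S : Sylow 2 G} (hA : A ≤ (S : Subgroup G)) (g : G) :
    A.map (MulAut.conj g).toMonoidHom ≤ ((g • S : Sylow 2 G) : Subgroup G) := by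
  rintro _ ⟨a, ha, rfl⟩
  refine (CfsgLib.Transfer.mem_sylow_smul_iff g S _).2 ?_
  show g⁻¹ * (g * a * g⁻¹) * g ∈ (S : Subgroup G)
  rw [show g⁻¹ * (g * a * g⁻¹) * g = a by group]
  exact hA ha

theorem exists_big_sylow (hrk : ¬ Cfsg.PRankLE 2 2 G) (S : Sylow 2 G) :
    ∃ A : Subgroup G, Big A ∧ A ≤ (S : Subgroup G) := by
  haveI : Fact (Nat.Prime 2) := ⟨Nat.prime_two⟩
  obtain ⟨A, hA⟩ : ∃ A : Subgroup G, Big A := by
    unfold Cfsg.PRankLE at hrk
    push Not at hrk
    obtain ⟨A, h1, h2, h⟩ := hrk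
    exact ⟨A, ⟨h1, h2⟩, CfsgLib.Signalizer.Connected.pow_three_le_of_lt ⟨h1, h2⟩ h⟩
  obtain ⟨P, hP⟩ := (CfsgLib.Signalizer.elementary_isPGroup hA.1).exists_le_sylow
  obtain ⟨g, rfl⟩ := MulAction.exists_smul_eq G P S
  exact ⟨_, hA.map g, map_conj_le_smul hP g⟩

/-- A normal four-group `⟨z, w⟩` of `S`, with every large elementary abelian subgroup of `S` linked
to one containing it. -/
theorem exists_four (hrk : ¬ Cfsg.PRankLE 2 2 G) (S : Sylow 2 G) :
    ∃ z w : G, z ∈ Om S ∧ orderOf z = 2 ∧ orderOf w = 2 ∧ w ≠ z ∧ w ∈ (S : Subgroup G) ∧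
      (∀ s ∈ (S : Subgroup G), s * w * s⁻¹ = w ∨ s * w * s⁻¹ = z * w) ∧
      ∀ A : Subgroup G, Big A → A ≤ (S : Subgroup G) → ∃ E : Subgroup G, Big E ∧
        E ≤ (S : Subgroup G) ∧ zpowers z ⊔ zpowers w ≤ E ∧ 2 ^ 2 ≤ Nat.card ↥(E ⊓ A) := by
  haveI : Fact (Nat.Prime 2) := ⟨Nat.prime_two⟩
  obtain ⟨A₀, hA₀, hA₀S⟩ := exists_big_sylow hrk S
  have hsub : Nat.card (A₀.subgroupOf (S : Subgroup G)) = Nat.card A₀ :=
    Nat.card_congr (subgroupOfEquivOfLe hA₀S).toEquiv
  obtain ⟨E₀, hE₀⟩ := Sylow.exists_subgroup_card_pow_prime_of_le_card Nat.prime_two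
    ((S.isPGroup').to_subgroup (A₀.subgroupOf (S : Subgroup G))) (n := 3) (hsub ▸ hA₀.2)
  obtain ⟨⟨z, hzS⟩, ⟨w, hwS⟩, hzc, hz2, hw2, hne, hconj⟩ :=
    CfsgLib.Invol.exists_normal_four_pair S.isPGroup'
      (E := E₀.map (A₀.subgroupOf (S : Subgroup G)).subtype)
      (by rw [card_map_of_injective (subtype_injective _), hE₀]; norm_num)
      (by
        rintro _ ⟨e, -, rfl⟩
        exact Subtype.ext (by simpa [pow_two] using hA₀.1.2 _ (mem_subgroupOf.1 e.2)))
  rw [Subgroup.orderOf_mk] at hz2 hw2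
  have hzcom : ∀ s ∈ (S : Subgroup G), s * z = z * s := fun s hs =>
    congrArg Subtype.val (mem_center_iff.1 hzc ⟨s, hs⟩)
  have hne' : w ≠ z := fun h => hne (Subtype.ext h)
  have hconj' : ∀ s ∈ (S : Subgroup G), s * w * s⁻¹ = w ∨ s * w * s⁻¹ = z * w := fun s hs =>
    (hconj ⟨s, hs⟩).imp (congrArg Subtype.val) (congrArg Subtype.val)
  refine ⟨z, w, mem_Om.2 ⟨hzS, hzcom, mul_self_of_two hz2⟩, hz2, hw2, hne', hwS, hconj',
    fun A hA hAS => ?_⟩
  set U := zpowers z ⊔ zpowers w with hU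
  obtain ⟨hUe, hU4, hUmem⟩ := four_facts hz2 hw2 hne' (hzcom w hwS).symm
  set C := (S : Subgroup G) ⊓ centralizer ({w} : Set G) with hC
  have hCi : C.relIndex (S : Subgroup G) ≤ 2 := by
    rw [hC, inf_relIndex_left]
    by_cases h : (S : Subgroup G) ≤ centralizer ({w} : Set G)
    · rw [relIndex_eq_one.2 h]; norm_num
    obtain ⟨a, ha, haw⟩ := SetLike.not_le_iff_exists.1 h
    rw [mem_centralizer_singleton_iff] at haw
    have ha' : a * w * a⁻¹ = z * w :=
      (hconj' a ha).resolve_left fun h => haw (mul_inv_eq_iff_eq_mul.1 h)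
    refine le_of_eq (index_eq_two_iff.2 ⟨⟨a, ha⟩, fun b => ?_⟩)
    simp only [mem_subgroupOf, mem_centralizer_singleton_iff, coe_mul]
    by_cases hb : (b : G) * w = w * b
    · refine Or.inr ⟨hb, fun h => haw ?_⟩
      have h1 : (b : G) * (a * w) = b * (w * a) := by rw [← mul_assoc, h, ← mul_assoc, ← hb, mul_assoc]
      exact mul_left_cancel h1
    · refine Or.inl ⟨mul_inv_eq_iff_eq_mul.1 ?_, hb⟩
      have hb' : (b : G) * w * (b : G)⁻¹ = z * w :=
        (hconj' b b.2).resolve_left fun h => hb (mul_inv_eq_iff_eq_mul.1 h)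
      calc (b : G) * a * w * ((b : G) * a)⁻¹ = (b : G) * (a * w * a⁻¹) * (b : G)⁻¹ := by group
        _ = (b : G) * z * (w * (b : G)⁻¹) := by rw [ha']; group
        _ = z * ((b : G) * w * (b : G)⁻¹) := by rw [hzcom b b.2]; group
        _ = w := by rw [hb', ← mul_assoc, mul_self_of_two hz2, one_mul]
  set F := A ⊓ centralizer ({w} : Set G) with hF
  have hF4 : 2 ^ 2 ≤ Nat.card F := by
    have h1 : F.relIndex A ≤ 2 := by
      have h0 : C.relIndex A ≤ C.relIndex (S : Subgroup G) :=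
        relIndex_le_of_le_right hAS (index_ne_zero_of_finite)
      have h3 : F.relIndex A = C.relIndex A := by
        rw [hF, inf_relIndex_left, hC, ← inf_relIndex_right C A,
          ← inf_relIndex_right (centralizer ({w} : Set G)) A]
        congr 1
        rw [hC, inf_comm (S : Subgroup G), inf_assoc, inf_eq_right.2 hAS]
      omega
    have h2 := card_mul_index (F.subgroupOf A)
    rw [Nat.card_congr (subgroupOfEquivOfLe (show F ≤ A from inf_le_left)).toEquiv] at h2
    have h8 := hA.2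
    change F.relIndex A ≤ 2 at h1
    have : Nat.card F * (F.subgroupOf A).index ≤ Nat.card F * 2 := Nat.mul_le_mul_left _ h1
    omega
  have hFU : ∀ a ∈ F, ∀ b ∈ U, a * b = b * a := by
    rintro a ⟨haA, haw'⟩ b hb
    have haw : a * w = w * a := mem_centralizer_singleton_iff.1 haw'
    rcases hUmem b hb with rfl | rfl | rfl | rfl
    · simp
    · exact hzcom a (hAS haA)
    · exact haw
    · exact ((show Commute a z from hzcom a (hAS haA)).mul_right haw).eq
  have hUS : U ≤ (S : Subgroup G) := sup_le (zpowers_le.2 hzS) (zpowers_le.2 hwS)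
  have hE := CfsgLib.Signalizer.Connected.elementary_sup
    (CfsgLib.Signalizer.elementary_of_le hA.1 inf_le_left) hUe hFU
  by_cases h8 : 2 ^ 3 ≤ Nat.card ↥(F ⊔ U)
  · exact ⟨F ⊔ U, ⟨hE, h8⟩, sup_le (inf_le_left.trans hAS) hUS, le_sup_right,
      hF4.trans (card_le_of_le (le_inf le_sup_left inf_le_left))⟩
  · have h4 : Nat.card ↥(F ⊔ U) ≤ 2 ^ 2 := by
      by_contra hlt
      exact h8 (CfsgLib.Signalizer.Connected.pow_three_le_of_lt hE (not_le.1 hlt))
    have hFeq : F = F ⊔ U := eq_of_le_of_card_ge le_sup_left (h4.trans hF4)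
    exact ⟨A, hA, hAS, (le_sup_right.trans hFeq.ge).trans inf_le_left,
      hF4.trans (card_le_of_le (le_inf inf_le_left inf_le_left))⟩

variable (hyp : Hyp G)

/-- The signalizer functor. -/
local notation "θ" => (fun x => Cfsg.centralizerPPrimeCore 2 x)

/-- The closure attached to a Sylow subgroup. -/
def Wt (S : Sylow 2 G) : Subgroup G :=
  ⨆ A : {A : Subgroup G // Big A ∧ A ≤ (S : Subgroup G)},
    Cfsg.signalizerClosure (A : Subgroup G) θ

include hyp

theorem functor_hyps :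
    (∀ a : G, CfsgLib.Signalizer.Connected.Dom 2 a →
      (θ a) ≤ centralizer ({a} : Set G) ∧ ¬ 2 ∣ Nat.card ↥(θ a) ∧ Group.IsSolvable ↥(θ a)) ∧
    (∀ a g : G, CfsgLib.Signalizer.Connected.Dom 2 a →
      (θ (g * a * g⁻¹)) = (θ a).map (MulAut.conj g).toMonoidHom) ∧
    (∀ a b : G, CfsgLib.Signalizer.Connected.Dom 2 a → CfsgLib.Signalizer.Connected.Dom 2 b →
      a * b = b * a → (θ a) ⊓ centralizer {b} ≤ θ b) := by
  haveI : Fact (Nat.Prime 2) := ⟨Nat.prime_two⟩
  refine ⟨fun a ha => ⟨coreP_le 2 _, fun hd => ?_, ?_⟩,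
    fun a g _ => CfsgLib.Signalizer.Connected.centralizerPPrimeCore_conj a g,
    fun a b ha hb hab => ?_⟩
  · exact Nat.prime_two.ne_one (Nat.eq_one_of_dvd_coprimes
      (coreP_coprime 2 (centralizer ({a} : Set G))) hd dvd_rfl)
  · have := hyp.solv a ha.1
    exact Group.isSolvable_of_isSolvable_injective
      (inclusion_injective (coreP_le 2 (centralizer ({a} : Set G))))
  · have := hyp.solv b hb.1
    exact CfsgLib.Signalizer.Connected.balance_of_pLayer_eq_bot ha.1 hab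
      CfsgLib.Signalizer.pLayer_eq_bot_of_isSolvable

theorem closure_eq' {A E : Subgroup G} (hA : Big A) (hEA : E ≤ A) (h2 : 2 ^ 2 ≤ Nat.card E) :
    Cfsg.signalizerClosure E θ = Cfsg.signalizerClosure A θ :=
  haveI : Fact (Nat.Prime 2) := ⟨Nat.prime_two⟩
  CfsgLib.Signalizer.Connected.closure_eq (CfsgLib.Signalizer.functorTheorem 2 G)
    (functor_hyps hyp).1 (functor_hyps hyp).2.1 (functor_hyps hyp).2.2 hA.1 hA.2 hEA h2

theorem Wt_eq (hrk : ¬ Cfsg.PRankLE 2 2 G) {S : Sylow 2 G} {A : Subgroup G} (hA : Big A)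
    (hAS : A ≤ (S : Subgroup G)) : Wt S = Cfsg.signalizerClosure A θ := by
  obtain ⟨z, w, -, hz, hw, hne, hwS, -, hlink⟩ := exists_four hrk S
  have key : ∀ B : Subgroup G, Big B → B ≤ (S : Subgroup G) → Cfsg.signalizerClosure B θ =
      Cfsg.signalizerClosure (zpowers z ⊔ zpowers w) θ := by
    intro B hB hBS
    obtain ⟨E, hE, hES, hUE, h4⟩ := hlink B hB hBS
    have hzE : z ∈ E := hUE (mem_sup_left (mem_zpowers z))
    have hwE : w ∈ E := hUE (mem_sup_right (mem_zpowers w))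
    have hcard : 2 ^ 2 ≤ Nat.card ↥(zpowers z ⊔ zpowers w) :=
      (four_facts hz hw hne (CfsgLib.Signalizer.elementary_commute hE.1 hzE hwE)).2.1.ge
    rw [← closure_eq' hyp hB inf_le_right h4, closure_eq' hyp hE inf_le_left h4,
      closure_eq' hyp hE hUE hcard]
  refine le_antisymm (iSup_le fun B => ?_) (le_iSup_of_le ⟨A, hA, hAS⟩ le_rfl)
  rw [key _ B.2.1 B.2.2, key A hA hAS]

theorem Wt_smul (hrk : ¬ Cfsg.PRankLE 2 2 G) (S : Sylow 2 G) (g : G) :
    Wt (g • S) = (Wt S).map (MulAut.conj g).toMonoidHom := by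
  haveI : Fact (Nat.Prime 2) := ⟨Nat.prime_two⟩
  obtain ⟨A, hA, hAS⟩ := exists_big_sylow hrk S
  rw [Wt_eq hyp hrk hA hAS, Wt_eq hyp hrk (hA.map g) (map_conj_le_smul hAS g),
    Cfsg.signalizerClosure, Cfsg.signalizerClosure, Subgroup.map_iSup]
  have heq := (functor_hyps hyp).2.1
  set c : G →* G := (MulAut.conj g).toMonoidHom with hc
  have hinj : Function.Injective c := (MulAut.conj g).injective
  refine le_antisymm (iSup_le ?_) (iSup_le fun x => ?_)
  · rintro ⟨_, ⟨x, hx, rfl⟩, hx1⟩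
    have hx1' : x ≠ 1 := fun h => hx1 (by rw [h, map_one])
    refine le_iSup_of_le (⟨x, hx, hx1'⟩ : {a : G // a ∈ A ∧ a ≠ 1}) ?_
    exact le_of_eq (heq x g (CfsgLib.Signalizer.Connected.dom_of_big hA.1 hA.2 hx hx1'))
  · refine le_iSup_of_le (⟨c x.1, mem_map_of_mem c x.2.1,
      fun h => x.2.2 (hinj (h.trans (map_one c).symm))⟩ : {a : G // a ∈ A.map c ∧ a ≠ 1}) ?_
    exact le_of_eq (heq x.1 g (CfsgLib.Signalizer.Connected.dom_of_big hA.1 hA.2 x.2.1 x.2.2)).symm

theorem normalizer_le_normalizer_Wt (hrk : ¬ Cfsg.PRankLE 2 2 G) (S : Sylow 2 G) :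
    normalizer ((S : Subgroup G) : Set G) ≤ normalizer (Wt S : Set G) := fun n hn => by
  refine mem_normalizer_iff_map_conj_eq.2 ?_
  have h := Wt_smul hyp hrk S n
  rw [Sylow.smul_eq_iff_mem_normalizer.2 hn] at h
  exact h.symm

theorem exists_smul_center (S S' : Sylow 2 G) :
    ∃ g : G, S' = g • S := by
  haveI : Fact (Nat.Prime 2) := ⟨Nat.prime_two⟩
  obtain ⟨g, hg⟩ := MulAction.exists_smul_eq G S S'
  exact ⟨g, hg.symm⟩

omit hyp in
theorem card_Om_smul (S : Sylow 2 G) (g : G) : Nat.card (Om (g • S)) = Nat.card (Om S) := by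
  have : Om (g • S) = (Om S).map (MulAut.conj g).toMonoidHom := by
    ext x
    rw [mem_Om_smul]
    refine ⟨fun h => ⟨_, h, ?_⟩, ?_⟩
    · show g * (g⁻¹ * x * g) * g⁻¹ = x
      group
    · rintro ⟨a, ha, rfl⟩
      show g⁻¹ * (g * a * g⁻¹) * g ∈ Om S
      rw [show g⁻¹ * (g * a * g⁻¹) * g = a by group]
      exact ha
  rw [this, card_map_of_injective (MulAut.conj g).injective]

omit hyp in
theorem big_sup_Om {S : Sylow 2 G} {A : Subgroup G} (hA : Big A) (hAS : A ≤ (S : Subgroup G)) :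
    Big (A ⊔ Om S) ∧ A ⊔ Om S ≤ (S : Subgroup G) :=
  haveI : Fact (Nat.Prime 2) := ⟨Nat.prime_two⟩
  ⟨⟨CfsgLib.Signalizer.Connected.elementary_sup hA.1 (Om_elementary S)
    fun a ha b hb => (mem_Om.1 hb).2.1 a (hAS ha), hA.2.trans (card_le_of_le le_sup_left)⟩,
    sup_le hAS (Om_le S)⟩

/-- Sylow subgroups with commuting centres have the same closure. -/
theorem Wt_eq_of_commute (hrk : ¬ Cfsg.PRankLE 2 2 G) {S S' : Sylow 2 G}
    (hc : ∀ a ∈ Om S, ∀ b ∈ Om S', a * b = b * a) : Wt S = Wt S' := by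
  haveI : Fact (Nat.Prime 2) := ⟨Nat.prime_two⟩
  obtain ⟨g, rfl⟩ := exists_smul_center hyp S S'
  by_cases hcard : 2 < Nat.card (Om S)
  · have key : ∀ P : Sylow 2 G, 2 < Nat.card (Om P) → Cfsg.IsRankGraphVertex 2 2 (Om P) ∧
        Wt P = Cfsg.signalizerClosure (Om P) θ := by
      intro P hP
      obtain ⟨A, hA, hAP⟩ := exists_big_sylow hrk P
      obtain ⟨hB, hBP⟩ := big_sup_Om hA hAP
      have h4 : 2 ^ 2 ≤ Nat.card (Om P) := by
        obtain ⟨n, hn⟩ := (CfsgLib.Signalizer.elementary_isPGroup (Om_elementary P)).exists_card_eq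
        rw [hn] at hP ⊢
        refine Nat.pow_le_pow_right (by norm_num) ?_
        by_contra hlt
        interval_cases n <;> norm_num at hP
      refine ⟨⟨Om_elementary P, h4, CfsgLib.Signalizer.Connected.not_rankLE_of_le hB.1 hB.2 ?_⟩, ?_⟩
      · exact fun a ha => mem_centralizer_iff.2 fun b hb => ((mem_Om.1 hb).2.1 a (hBP ha)).symm
      · rw [Wt_eq hyp hrk hB hBP, closure_eq' hyp hB le_sup_right h4]
    obtain ⟨h1, h1'⟩ := key S hcard
    obtain ⟨h2, h2'⟩ := key (g • S) (by rwa [card_Om_smul])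
    rw [h1', h2']
    exact CfsgLib.Signalizer.Connected.closure_eq_of_commute (CfsgLib.Signalizer.functorTheorem 2 G)
      (functor_hyps hyp).1 (functor_hyps hyp).2.1 (functor_hyps hyp).2.2 h1 h2 hc
  obtain ⟨z, hz, -⟩ := exists_center2 hyp S (not_lt.1 hcard)
  have hz' := hz.smul g
  set x := g * z * g⁻¹ with hx
  have hzx : z * x = x * z := hc z hz.2.1 x hz'.2.1
  by_cases hne : x = z
  · rw [hyp.sylow_eq (S := S) (S' := g • S) fun s hs => mem_centralizer_iff.2 fun t ht => ?_]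
    rcases hz.2.2 t ht with rfl | rfl
    · simp
    · rw [← hne]; exact (hz'.comm hs).symm
  by_cases hbig : ∃ A : Subgroup G, Cfsg.IsElementaryAbelian 2 A ∧ z ∈ A ∧ x ∈ A ∧ 8 ≤ Nat.card A
  · obtain ⟨A, hA, hzA, hxA, h8⟩ := hbig
    have hA' : Big A := ⟨hA, h8⟩
    rw [Wt_eq hyp hrk hA' (hz.pgroup_le hyp (CfsgLib.Signalizer.elementary_isPGroup hA)
        fun q hq => CfsgLib.Signalizer.elementary_commute hA hq hzA),
      Wt_eq hyp hrk hA' (hz'.pgroup_le hyp (CfsgLib.Signalizer.elementary_isPGroup hA)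
        fun q hq => CfsgLib.Signalizer.elementary_commute hA hq hxA)]
  exfalso
  push Not at hbig
  have hxJ : IsConj z x := isConj_iff.2 ⟨g, rfl⟩
  have hxS : x ∈ (S : Subgroup G) := hz.mem_of_comm hyp (mul_self_of_two hz'.1) hzx.symm
  have ho : Only z x := only_of_no_big hz.1 hz'.1 hne hzx fun A hA h1 h2 => hbig A hA h1 h2
  obtain ⟨A, hA, hAS⟩ := exists_big_sylow hrk S
  have hA8 : 8 ≤ Nat.card A := hA.2
  rcases normal_four_or_small hyp hz hxS hxJ hne ho with ⟨v, hvS, hvJ, hvne, hov, hvn⟩ | hC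
  · have hv2 : orderOf v = 2 := by
      obtain ⟨c, rfl⟩ := isConj_iff.1 hvJ
      exact (orderOf_conj' c z).trans hz.1
    obtain ⟨-, h4, -⟩ := four_facts hz.1 hv2 hvne (hz.comm hvS).symm
    classical
    set F := A ⊓ centralizer ({v} : Set G) with hF
    have hFsub : ∀ t ∈ F, t = 1 ∨ t = z ∨ t = v ∨ t = z * v := fun t ht =>
      hov t (by simpa [pow_two] using hA.1.2 t ht.1) (hz.comm (hAS ht.1))
        (mem_centralizer_singleton_iff.1 ht.2)
    have hle : F ≤ zpowers z ⊔ zpowers v := fun t ht => by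
      rcases hFsub t ht with rfl | rfl | rfl | rfl
      exacts [one_mem _, mem_sup_left (mem_zpowers _), mem_sup_right (mem_zpowers _),
        mul_mem (mem_sup_left (mem_zpowers _)) (mem_sup_right (mem_zpowers _))]
    -- the index of `F` in `A` is at most two
    have hidx : Nat.card A ≤ 2 * Nat.card F := by
      by_cases hall : A ≤ centralizer ({v} : Set G)
      · rw [hF, inf_eq_left.2 hall]; omega
      obtain ⟨a, haA, hav⟩ := SetLike.not_le_iff_exists.1 hall
      rw [mem_centralizer_singleton_iff] at hav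
      have ha' : a * v * a⁻¹ = z * v :=
        (hvn a (hAS haA)).resolve_left fun h => hav (mul_inv_eq_iff_eq_mul.1 h)
      have h2 : (F.subgroupOf A).index = 2 := by
        refine index_eq_two_iff.2 ⟨⟨a, haA⟩, fun b => ?_⟩
        simp only [hF, mem_subgroupOf, mem_inf, mem_centralizer_singleton_iff, coe_mul,
          SetLike.coe_mem, true_and, mul_mem b.2 haA]
        by_cases hb : (b : G) * v = v * b
        · refine Or.inr ⟨hb, fun h => hav ?_⟩
          have h1 : (b : G) * (a * v) = b * (v * a) := by rw [← mul_assoc, h, ← mul_assoc, ← hb, mul_assoc]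
          exact mul_left_cancel h1
        · refine Or.inl ⟨mul_inv_eq_iff_eq_mul.1 ?_, hb⟩
          have hb' : (b : G) * v * (b : G)⁻¹ = z * v :=
            (hvn b (hAS b.2)).resolve_left fun h => hb (mul_inv_eq_iff_eq_mul.1 h)
          calc (b : G) * a * v * ((b : G) * a)⁻¹ = (b : G) * (a * v * a⁻¹) * (b : G)⁻¹ := by group
            _ = (b : G) * z * (v * (b : G)⁻¹) := by rw [ha']; group
            _ = z * ((b : G) * v * (b : G)⁻¹) := by rw [hz.comm (hAS b.2)]; group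
            _ = v := by rw [hb', ← mul_assoc, mul_self_of_two hz.1, one_mul]
      have h3 := card_mul_index (F.subgroupOf A)
      rw [h2, Nat.card_congr (subgroupOfEquivOfLe (show F ≤ A from inf_le_left)).toEquiv] at h3
      omega
    have hFeq : F = zpowers z ⊔ zpowers v := eq_of_le_of_card_ge hle (by omega)
    have hvA : v ∈ A := (hFeq.ge (mem_sup_right (mem_zpowers v))).1
    have hAF : A ≤ F := fun a ha => ⟨ha,
      mem_centralizer_singleton_iff.2 (CfsgLib.Signalizer.elementary_commute hA.1 ha hvA)⟩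
    have := card_le_of_le (hAF.trans hle)
    omega
  · have hxc : (⟨x, hxS⟩ : (S : Subgroup G)) ∉ center (S : Subgroup G) := fun h => by
      rcases hz.2.2 x (mem_Om.2 ⟨hxS, fun s hs => congrArg Subtype.val (mem_center_iff.1 h ⟨s, hs⟩),
        mul_self_of_two hz'.1⟩) with h' | h'
      · exact ne_one_of_two hz'.1 h'
      · exact hne h'
    obtain ⟨-, -, -, hno⟩ := small_structure S.isPGroup' (x := ⟨x, hxS⟩) (z := ⟨z, hz.mem⟩)
      (by rw [Subgroup.orderOf_mk]; exact hz'.1) (by rw [Subgroup.orderOf_mk]; exact hz.1)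
      (mem_center_iff.2 fun y => Subtype.ext (hz.comm y.2)) hxc
      (fun y hy => by
        rcases hC y y.2 (congrArg Subtype.val hy) with h | h | h | h
        · exact Or.inl (Subtype.ext h)
        · exact Or.inr (Or.inl (Subtype.ext h))
        · exact Or.inr (Or.inr (Or.inl (Subtype.ext h)))
        · exact Or.inr (Or.inr (Or.inr (Subtype.ext h))))
    have h := hno (A.subgroupOf (S : Subgroup G)) ⟨⟨⟨fun a b => Subtype.ext (Subtype.ext
      (CfsgLib.Signalizer.elementary_commute hA.1 a.2 b.2))⟩⟩,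
      fun a ha => Subtype.ext (hA.1.2 (a : G) ha)⟩
    rw [Nat.card_congr (subgroupOfEquivOfLe hAS).toEquiv] at h
    omega

/-- The core of the centralizer of `t` lies in the closure of a Sylow subgroup meeting `C(t)` in a
Sylow subgroup. -/
theorem theta_le_Wt (hrk : ¬ Cfsg.PRankLE 2 2 G) {t : G}
    (ht : CfsgLib.Signalizer.Connected.Dom 2 t) {S' : Sylow 2 G}
    (T : Sylow 2 ↥(centralizer ({t} : Set G)))
    (hT : (T : Subgroup ↥(centralizer ({t} : Set G))).map (centralizer ({t} : Set G)).subtype ≤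
      (S' : Subgroup G)) (htT : t ∈ (S' : Subgroup G)) :
    Cfsg.centralizerPPrimeCore 2 t ≤ Wt S' := by
  haveI : Fact (Nat.Prime 2) := ⟨Nat.prime_two⟩
  obtain ⟨B, hBC, hB, hB3⟩ := CfsgLib.Signalizer.Connected.exists_big ht.2
  obtain ⟨P, hP⟩ := ((CfsgLib.Signalizer.elementary_isPGroup hB).comap_of_injective
    (centralizer ({t} : Set G)).subtype (subtype_injective _)).exists_le_sylow
  obtain ⟨c, rfl⟩ := MulAction.exists_smul_eq ↥(centralizer ({t} : Set G)) P T
  have hB'S : B.map (MulAut.conj (c : G)).toMonoidHom ≤ (S' : Subgroup G) := by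
    rintro _ ⟨b, hb, rfl⟩
    refine hT ⟨c * ⟨b, hBC hb⟩ * c⁻¹, ?_, rfl⟩
    refine (CfsgLib.Transfer.mem_sylow_smul_iff c P _).2 ?_
    rw [show c⁻¹ * (c * ⟨b, hBC hb⟩ * c⁻¹) * c = (⟨b, hBC hb⟩ : ↥(centralizer ({t} : Set G))) by group]
    exact hP hb
  set B' := B.map (MulAut.conj (c : G)).toMonoidHom with hB'
  have hcomm : ∀ a ∈ B', ∀ b ∈ zpowers t, a * b = b * a := by
    rintro _ ⟨a, ha, rfl⟩ _ ⟨i, rfl⟩
    refine ((show Commute ((MulAut.conj (c : G)).toMonoidHom a) t from ?_).zpow_right i).eq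
    show (c : G) * a * (c : G)⁻¹ * t = t * ((c : G) * a * (c : G)⁻¹)
    exact mem_centralizer_singleton_iff.1 (mul_mem (mul_mem c.2 (hBC ha)) (inv_mem c.2))
  have hE : Big (B' ⊔ zpowers t) := ⟨CfsgLib.Signalizer.Connected.elementary_sup
    (CfsgLib.Signalizer.Connected.elementary_map hB _) (elementary_zpowers_two ht.1) hcomm,
    hB3.trans ((card_map_of_injective (MulAut.conj (c : G)).injective).symm.le.trans
      (card_le_of_le le_sup_left))⟩
  rw [Wt_eq hyp hrk hE (sup_le hB'S (zpowers_le.2 htT))]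
  exact le_iSup (fun x : {x : G // x ∈ B' ⊔ zpowers t ∧ x ≠ 1} => θ x.1)
    ⟨t, mem_sup_right (mem_zpowers t), ne_one_of_two ht.1⟩

/-- A Sylow subgroup of `G` containing a given Sylow subgroup of `C(t)`. -/
theorem exists_sylow_above {t : G} (ht : orderOf t = 2) (T : Sylow 2 ↥(centralizer ({t} : Set G))) :
    ∃ S' : Sylow 2 G,
      (T : Subgroup ↥(centralizer ({t} : Set G))).map (centralizer ({t} : Set G)).subtype ≤
        (S' : Subgroup G) ∧ t ∈ (S' : Subgroup G) := by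
  haveI : Fact (Nat.Prime 2) := ⟨Nat.prime_two⟩
  obtain ⟨S', hS'⟩ := (T.isPGroup'.map (centralizer ({t} : Set G)).subtype).exists_le_sylow
  refine ⟨S', hS', hS' ?_⟩
  have hn : (zpowers (⟨t, mem_centralizer_singleton_iff.2 rfl⟩ : ↥(centralizer ({t} : Set G)))).Normal :=
    ⟨fun a ha g => by
      rw [mem_zpowers_iff] at ha
      obtain ⟨i, rfl⟩ := ha
      have : Commute g (⟨t, mem_centralizer_singleton_iff.2 rfl⟩ : ↥(centralizer ({t} : Set G))) :=
        Subtype.ext (mem_centralizer_singleton_iff.1 g.2)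
      rw [(this.zpow_right i).eq, mul_inv_cancel_right]
      exact zpow_mem (mem_zpowers _) i⟩
  have h1 : zpowers (⟨t, mem_centralizer_singleton_iff.2 rfl⟩ : ↥(centralizer ({t} : Set G))) ≤
      Cfsg.pCore 2 ↥(centralizer ({t} : Set G)) :=
    le_sSup ⟨hn, twoGroup_zpowers (Subtype.ext (mul_self_of_two ht))⟩
  exact ⟨_, CfsgLib.Solvable.pCore_le_sylow T (h1 (mem_zpowers _)), rfl⟩

/-- The centralizer of an involution of `N(Wt S)` normalizes `Wt S`. -/
theorem centralizer_le_normalizer_Wt (hrk : ¬ Cfsg.PRankLE 2 2 G) (S : Sylow 2 G) {t : G}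
    (ht : CfsgLib.Signalizer.Connected.Dom 2 t) (htM : t ∈ normalizer (Wt S : Set G)) :
    centralizer ({t} : Set G) ≤ normalizer (Wt S : Set G) := by
  haveI : Fact (Nat.Prime 2) := ⟨Nat.prime_two⟩
  set M := normalizer (Wt S : Set G) with hM
  have hWM : ∀ g : G, g ∈ M ↔ Wt (g • S) = Wt S := fun g => by
    rw [Wt_smul hyp hrk, hM, mem_normalizer_iff_map_conj_eq]
    rfl
  obtain ⟨m, hm, htm⟩ := exists_conj_mem_sylow_of_le
    (le_normalizer.trans (normalizer_le_normalizer_Wt hyp hrk S)) htM (mul_self_of_two ht.1)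
  set C := centralizer ({t} : Set G) with hC
  obtain ⟨T, hT⟩ := ((m • S : Sylow 2 G).isPGroup'.comap_of_injective C.subtype
    (subtype_injective _)).exists_le_sylow
  obtain ⟨S', hTS', htS'⟩ := exists_sylow_above hyp ht.1 T
  have hZS' : ∀ a ∈ Om (m • S), a ∈ (S' : Subgroup G) := fun a ha => by
    have haC : a ∈ C := mem_centralizer_singleton_iff.2 ((mem_Om.1 ha).2.1 t htm).symm
    exact hTS' ⟨⟨a, haC⟩, hT (show a ∈ ((m • S : Sylow 2 G) : Subgroup G) from Om_le _ ha), rfl⟩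
  have hW : Wt S' = Wt S := by
    rw [← (hWM m).1 hm]
    exact (Wt_eq_of_commute hyp hrk fun a ha b hb => (mem_Om.1 hb).2.1 a (hZS' a ha)).symm
  have hMW : normalizer ((S' : Subgroup G) : Set G) ≤ M := by
    rw [hM, ← hW]; exact normalizer_le_normalizer_Wt hyp hrk S'
  have hS'M : (S' : Subgroup G) ≤ M := le_normalizer.trans hMW
  have hWle : Cfsg.centralizerPPrimeCore 2 t ≤ M :=
    ((theta_le_Wt hyp hrk ht T hTS' htS').trans_eq hW).trans le_normalizer
  intro c hc
  -- the conjugate of `Ω₁(Z(S'))` by `c` lies in `M`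
  have hY : ∀ z ∈ Om S', c * z * c⁻¹ ∈ M := by
    intro z hz
    have := hyp.solv t ht.1
    set O := Cfsg.pPrimeCore 2 ↥C with hO
    haveI hOn : O.Normal := CfsgLib.Solvable.pPrimeCore_normal 2 ↥C
    set f := QuotientGroup.mk' O with hf
    have hfs : Function.Surjective f := QuotientGroup.mk'_surjective O
    haveI : Group.IsSolvable (↥C ⧸ O) := Group.isSolvable_of_surjective hfs
    have hbot : Cfsg.pPrimeCore 2 (↥C ⧸ O) = ⊥ := CfsgLib.Solvable.pPrimeCore_quotient_eq_bot O rfl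
    have hzC : z ∈ C := mem_centralizer_singleton_iff.2 ((mem_Om.1 hz).2.1 t htS').symm
    have hzO : f ⟨z, hzC⟩ ∈ Cfsg.pCore 2 (↥C ⧸ O) := by
      refine CfsgLib.Case.centralizer_pCore_le_of_solvable hbot (mem_centralizer_iff.2 fun y hy => ?_)
      obtain ⟨s, hs, rfl⟩ := (CfsgLib.Solvable.pCore_le_sylow (T.mapSurjective hfs)) hy
      rw [← map_mul, ← map_mul]
      exact congrArg f (Subtype.ext ((mem_Om.1 hz).2.1 _ (hTS' ⟨s, hs, rfl⟩)))
    haveI : (Cfsg.pCore 2 (↥C ⧸ O)).Normal := CfsgLib.Solvable.pCore_normal 2 (↥C ⧸ O)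
    have hczO := Subgroup.Normal.conj_mem inferInstance _ hzO (f ⟨c, hc⟩)
    obtain ⟨s, hs, hfsq⟩ := (CfsgLib.Solvable.pCore_le_sylow (T.mapSurjective hfs)) hczO
    rw [← map_inv, ← map_mul, ← map_mul] at hfsq
    have h1 : s⁻¹ * (⟨c, hc⟩ * ⟨z, hzC⟩ * (⟨c, hc⟩ : C)⁻¹) ∈ O := QuotientGroup.eq.1 hfsq
    have h2 := mul_mem (hS'M (hTS' ⟨s, hs, rfl⟩)) (hWle ⟨_, h1, rfl⟩)
    simpa [mul_assoc] using h2
  have hYle : Om (c • S') ≤ M := fun x hx => by
    have := hY _ (mem_Om_smul.1 hx)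
    simpa [mul_assoc] using this
  obtain ⟨P, hP⟩ := ((CfsgLib.Signalizer.elementary_isPGroup
    (Om_elementary (c • S'))).comap_of_injective M.subtype M.subtype_injective).exists_le_sylow
  obtain ⟨n, rfl⟩ := MulAction.exists_smul_eq M (S'.subtype hS'M) P
  have hcomm : Wt (c • S') = Wt ((n : G) • S') := by
    refine Wt_eq_of_commute hyp hrk fun a ha b hb => ?_
    have h1 := hP (show (⟨a, hYle ha⟩ : M) ∈ (Om (c • S')).comap M.subtype from ha)
    rw [Sylow.smul_subtype, Sylow.coe_subtype] at h1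
    exact (mem_Om.1 hb).2.1 a (mem_subgroupOf.1 h1)
  have hn := mem_normalizer_iff_map_conj_eq.1 n.2
  rw [Wt_smul hyp hrk S' c, Wt_smul hyp hrk S' (n : G), hW] at hcomm
  exact mem_normalizer_iff_map_conj_eq.2 (hcomm.trans hn)

/-- With 2-rank at least three there is a strongly embedded subgroup, or all cores in question vanish. -/
theorem bigRank (hrk : ¬ Cfsg.PRankLE 2 2 G) (S : Sylow 2 G)
    (hdom : ∀ t ∈ Cfsg.pResidual 2 G, orderOf t = 2 → CfsgLib.Signalizer.Connected.Dom 2 t) :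
    (∃ M : Subgroup ↥(Cfsg.pResidual 2 G), Cfsg.IsStronglyEmbedded M) ∨
      ∀ t : G, CfsgLib.Signalizer.Connected.Dom 2 t → Cfsg.centralizerPPrimeCore 2 t = ⊥ := by
  haveI : Fact (Nat.Prime 2) := ⟨Nat.prime_two⟩
  by_cases hM : normalizer (Wt S : Set G) = ⊤
  · right
    haveI hWn : (Wt S).Normal := normalizer_eq_top_iff.1 hM
    have hWbot : Wt S = ⊥ := by
      obtain ⟨A, hA, hAS⟩ := exists_big_sylow hrk S
      have hθ := CfsgLib.Signalizer.Connected.functor_of_big (functor_hyps hyp).1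
        (functor_hyps hyp).2.1 (functor_hyps hyp).2.2 hA.1 hA.2
      have hd := (CfsgLib.Signalizer.functorTheorem 2 G A _ hA.1 hA.2 hθ).1
      rw [← Wt_eq hyp hrk hA hAS] at hd
      exact le_bot_iff.1 (hyp.oddCore ▸
        le_sSup ⟨hWn, ((Nat.prime_two.coprime_iff_not_dvd).2 hd).symm⟩)
    intro t ht
    obtain ⟨T⟩ := (inferInstance : Nonempty (Sylow 2 ↥(centralizer ({t} : Set G))))
    obtain ⟨S', hT, htS'⟩ := exists_sylow_above hyp ht.1 T
    obtain ⟨g, rfl⟩ := exists_smul_center hyp S S'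
    refine le_bot_iff.1 ((theta_le_Wt hyp hrk ht T hT htS').trans_eq ?_)
    rw [Wt_smul hyp hrk, hWbot, Subgroup.map_bot]
  · left
    exact hyp.stronglyEmbedded_of hM (normalizer_le_normalizer_Wt hyp hrk S) fun t htH htM ht2 =>
      centralizer_le_normalizer_Wt hyp hrk S (hdom t htH ht2) htM

/-- If `Ω₁(Z(S))` has order at least four then every involution has a centralizer of 2-rank at
least three. -/
theorem dom_of_large (hrk : ¬ Cfsg.PRankLE 2 2 G) (S : Sylow 2 G) (hcard : 2 < Nat.card (Om S))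
    (t : G) (ht : orderOf t = 2) : CfsgLib.Signalizer.Connected.Dom 2 t := by
  haveI : Fact (Nat.Prime 2) := ⟨Nat.prime_two⟩
  obtain ⟨g, hg⟩ := exists_conj_mem_sylow S (mul_self_of_two ht)
  obtain ⟨A, hA, hAS⟩ := exists_big_sylow hrk (g • S)
  by_cases htZ : t ∈ Om (g • S)
  · exact ⟨ht, CfsgLib.Signalizer.Connected.not_rankLE_of_le hA.1 hA.2 fun a ha =>
      mem_centralizer_singleton_iff.2 ((mem_Om.1 htZ).2.1 a (hAS ha))⟩
  obtain ⟨hE, hlt⟩ := sup_zpowers_facts (Om_elementary (g • S)) ht fun a ha =>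
    ((mem_Om.1 ha).2.1 t hg).symm
  refine CfsgLib.Signalizer.Connected.dom_of_big hE ?_ (mem_sup_right (mem_zpowers t)) (ne_one_of_two ht)
  have h1 := hlt htZ
  rw [card_Om_smul] at h1
  obtain ⟨n, hn⟩ := (CfsgLib.Signalizer.elementary_isPGroup (Om_elementary S)).exists_card_eq
  rw [hn] at hcard h1
  have : 2 ^ 2 ≤ 2 ^ n := by
    refine Nat.pow_le_pow_right (by norm_num) ?_
    by_contra hlt'
    interval_cases n <;> norm_num at hcard
  omega

/-- If `Ω₁(Z(S))` has order two then the involutions of `O²(G)` have centralizers of 2-rank at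
least three. -/
theorem dom_of_small (hrk : ¬ Cfsg.PRankLE 2 2 G) (S : Sylow 2 G) (hcard : Nat.card (Om S) ≤ 2)
    (t : G) (htH : t ∈ Cfsg.pResidual 2 G) (ht : orderOf t = 2) :
    CfsgLib.Signalizer.Connected.Dom 2 t := by
  haveI : Fact (Nat.Prime 2) := ⟨Nat.prime_two⟩
  obtain ⟨z, w, hzOm, hz, hw, hne, hwS, hconj, hlink⟩ := exists_four hrk S
  obtain ⟨A, hA, hAS⟩ := exists_big_sylow hrk S
  obtain ⟨E, hE, hES, hUE, -⟩ := hlink A hA hAS
  obtain ⟨hUe, h4, hUmem⟩ := four_facts hz hw hne ((mem_Om.1 hzOm).2.1 w hwS).symm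
  set M₀ := (S : Subgroup G) ⊓ centralizer ({w} : Set G) with hM₀
  by_contra hcon
  refine notMem_pResidual S M₀ ?_ (mul_self_of_two ht) (fun g hg => hcon ?_) htH
  · rw [hM₀, inf_relIndex_left]
    obtain ⟨a, ha, haw⟩ : ∃ a ∈ (S : Subgroup G), a * w ≠ w * a := by
      by_contra h
      push Not at h
      have he : zpowers z = Om S := eq_of_le_of_card_ge (zpowers_le.2 hzOm)
        (by rw [Nat.card_zpowers, hz]; exact hcard)
      rcases mem_zpowers_two (mul_self_of_two hz)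
        (he.symm ▸ mem_Om.2 ⟨hwS, h, mul_self_of_two hw⟩ : w ∈ zpowers z) with h' | h'
      · exact ne_one_of_two hw h'
      · exact hne h'
    have ha' : a * w * a⁻¹ = z * w :=
      (hconj a ha).resolve_left fun h => haw (mul_inv_eq_iff_eq_mul.1 h)
    refine index_eq_two_iff.2 ⟨⟨a, ha⟩, fun b => ?_⟩
    simp only [mem_subgroupOf, mem_centralizer_singleton_iff, coe_mul]
    by_cases hb : (b : G) * w = w * b
    · refine Or.inr ⟨hb, fun h => haw ?_⟩
      have h1 : (b : G) * (a * w) = b * (w * a) := by rw [← mul_assoc, h, ← mul_assoc, ← hb, mul_assoc]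
      exact mul_left_cancel h1
    · refine Or.inl ⟨mul_inv_eq_iff_eq_mul.1 ?_, hb⟩
      have hb' : (b : G) * w * (b : G)⁻¹ = z * w :=
        (hconj b b.2).resolve_left fun h => hb (mul_inv_eq_iff_eq_mul.1 h)
      calc (b : G) * a * w * ((b : G) * a)⁻¹ = (b : G) * (a * w * a⁻¹) * (b : G)⁻¹ := by group
        _ = (b : G) * z * (w * (b : G)⁻¹) := by rw [ha']; group
        _ = z * ((b : G) * w * (b : G)⁻¹) := by rw [(mem_Om.1 hzOm).2.1 b b.2]; group
        _ = w := by rw [hb', ← mul_assoc, mul_self_of_two hz, one_mul]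
  · have hu2 : orderOf (g * t * g⁻¹) = 2 := (orderOf_conj' g t).trans ht
    have hdom : CfsgLib.Signalizer.Connected.Dom 2 (g * t * g⁻¹) := by
      by_cases hU : g * t * g⁻¹ ∈ zpowers z ⊔ zpowers w
      · exact CfsgLib.Signalizer.Connected.dom_of_big hE.1 hE.2 (hUE hU) (ne_one_of_two hu2)
      obtain ⟨he, hlt⟩ := sup_zpowers_facts hUe hu2 fun a ha => by
        rcases hUmem a ha with rfl | rfl | rfl | rfl
        · simp
        · exact ((mem_Om.1 hzOm).2.1 _ hg.1).symm
        · exact (mem_centralizer_singleton_iff.1 hg.2).symm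
        · exact (((show Commute (g * t * g⁻¹) z from (mem_Om.1 hzOm).2.1 _ hg.1).mul_right
            (show Commute (g * t * g⁻¹) w from mem_centralizer_singleton_iff.1 hg.2)).eq).symm
      have h8 := hlt hU
      exact CfsgLib.Signalizer.Connected.dom_of_big he (by omega) (mem_sup_right (mem_zpowers _))
        (ne_one_of_two hu2)
    obtain ⟨B, hBC, hB, hB3⟩ := CfsgLib.Signalizer.Connected.exists_big hdom.2
    refine ⟨ht, CfsgLib.Signalizer.Connected.not_rankLE_of_le
      (CfsgLib.Signalizer.Connected.elementary_map hB (MulAut.conj g⁻¹).toMonoidHom)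
      (by rw [card_map_of_injective (MulAut.conj g⁻¹).injective]; exact hB3) ?_⟩
    rintro _ ⟨b, hb, rfl⟩
    refine mem_centralizer_singleton_iff.2 ?_
    have h := mem_centralizer_singleton_iff.1 (hBC hb)
    show g⁻¹ * b * g⁻¹⁻¹ * t = t * (g⁻¹ * b * g⁻¹⁻¹)
    calc g⁻¹ * b * g⁻¹⁻¹ * t = g⁻¹ * (b * (g * t * g⁻¹)) * g := by group
      _ = g⁻¹ * (g * t * g⁻¹ * b) * g := by rw [h]
      _ = t * (g⁻¹ * b * g⁻¹⁻¹) := by group

end CfsgLib.SmithTwo
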