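import Cfsg.Agent.Lib.SmithTwo.Four
import Cfsg.Agent.Lib.SmithTwo.Transfer
import Cfsg.Agent.Lib.Signalizer.Connected
import Cfsg.Agent.Lib.Invol.GlaubermanZStar

/-!
The case of 2-rank two and the common facts on involutions.
-/

set_option autoImplicit false
set_option linter.style.haveILetI false

open scoped Pointwise
open Subgroup CfsgLib.Balance

namespace CfsgLib.SmithTwo

variable {G : Type*} [Group G] [Finite G]

theorem mem_zpowers_two {a y : G} (ha : a * a = 1) (hy : y ∈ zpowers a) : y = 1 ∨ y = a := by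
  obtain ⟨i, rfl⟩ := hy
  rcases Int.even_or_odd i with ⟨k, rfl⟩ | ⟨k, rfl⟩
  · left
    simp only
    rw [zpow_add, ← Commute.mul_zpow (Commute.refl a), ha, one_zpow]
  · right
    simp only
    rw [zpow_add, zpow_one, two_mul, zpow_add, ← Commute.mul_zpow (Commute.refl a), ha, one_zpow,
      one_mul]

theorem elementary_zpowers_two {a : G} (ha : orderOf a = 2) :
    Cfsg.IsElementaryAbelian 2 (zpowers a) :=
  haveI : Fact (Nat.Prime 2) := ⟨Nat.prime_two⟩
  CfsgLib.Signalizer.Connected.elementary_zpowers ha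

theorem sup_zpowers_facts {A : Subgroup G} (hA : Cfsg.IsElementaryAbelian 2 A) {t : G}
    (ht : orderOf t = 2) (hc : ∀ a ∈ A, a * t = t * a) :
    Cfsg.IsElementaryAbelian 2 (A ⊔ zpowers t) ∧ (t ∉ A → 2 * Nat.card A ≤ Nat.card ↥(A ⊔ zpowers t)) := by
  haveI : Fact (Nat.Prime 2) := ⟨Nat.prime_two⟩
  refine ⟨CfsgLib.Signalizer.Connected.elementary_sup hA (elementary_zpowers_two ht) ?_, fun h => ?_⟩
  · intro a ha b hb
    rcases mem_zpowers_two (mul_self_of_two ht) hb with rfl | rfl
    · simp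
    · exact hc a ha
  · exact two_mul_card_le (lt_of_le_of_ne le_sup_left fun e =>
      h (e.symm ▸ mem_sup_right (mem_zpowers t)))

/-- The four-group of two commuting involutions. -/
theorem four_facts {z x : G} (hz : orderOf z = 2) (hx : orderOf x = 2) (hne : x ≠ z)
    (hc : z * x = x * z) :
    Cfsg.IsElementaryAbelian 2 (zpowers z ⊔ zpowers x) ∧ Nat.card ↥(zpowers z ⊔ zpowers x) = 4 ∧
      ∀ t ∈ zpowers z ⊔ zpowers x, t = 1 ∨ t = z ∨ t = x ∨ t = z * x := by
  have hzc : ∀ a ∈ zpowers z, a * x = x * a := fun a ha => by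
    rcases mem_zpowers_two (mul_self_of_two hz) ha with rfl | rfl
    · simp
    · exact hc
  obtain ⟨he, hcard⟩ := sup_zpowers_facts (elementary_zpowers_two hz) hx hzc
  have hmem : ∀ t ∈ zpowers z ⊔ zpowers x, t = 1 ∨ t = z ∨ t = x ∨ t = z * x := by
    intro t ht
    rw [← SetLike.mem_coe, coe_mul_of_left_le_normalizer_right (zpowers z) (zpowers x)] at ht
    · obtain ⟨a, ha, b, hb, rfl⟩ := ht
      rcases mem_zpowers_two (mul_self_of_two hz) ha with rfl | rfl <;>
        rcases mem_zpowers_two (mul_self_of_two hx) hb with rfl | rfl <;> simp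
    · refine le_trans (fun a ha => mem_centralizer_iff.2 fun b hb => ?_) (centralizer_le_normalizer _)
      rcases mem_zpowers_two (mul_self_of_two hx) hb with rfl | rfl
      · simp
      · exact (hzc a ha).symm
  refine ⟨he, le_antisymm ?_ ?_, hmem⟩
  · classical
    have hsub : ((zpowers z ⊔ zpowers x : Subgroup G) : Set G) ⊆
        (({1, z, x, z * x} : Finset G) : Set G) := fun t ht => by simpa using hmem t ht
    have h1 := Set.ncard_le_ncard hsub (Finset.finite_toSet _)
    rw [Set.ncard_coe_finset, ← Nat.card_coe_set_eq] at h1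
    exact h1.trans Finset.card_le_four
  · have hxz : x ∉ zpowers z := fun h => by
      rcases mem_zpowers_two (mul_self_of_two hz) h with h' | h'
      · exact ne_one_of_two hx h'
      · exact hne h'
    have := hcard hxz
    rw [Nat.card_zpowers, hz] at this
    omega

/-- Without an elementary abelian group of order eight through `z` and `x` there are no further
involutions in their common centralizer. -/
theorem only_of_no_big {z x : G} (hz : orderOf z = 2) (hx : orderOf x = 2) (hne : x ≠ z)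
    (hc : z * x = x * z)
    (h : ∀ A : Subgroup G, Cfsg.IsElementaryAbelian 2 A → z ∈ A → x ∈ A → Nat.card A < 8) :
    Only z x := by
  intro t ht htz htx
  obtain ⟨he, h4, hmem⟩ := four_facts hz hx hne hc
  by_contra hcon
  push Not at hcon
  have ht2 : orderOf t = 2 := orderOf_two ht hcon.1
  obtain ⟨hA, hlt⟩ := sup_zpowers_facts he ht2 fun a ha => by
    rcases hmem a ha with rfl | rfl | rfl | rfl
    · simp
    · exact htz.symm
    · exact htx.symm
    · exact ((show Commute t z from htz).mul_right htx).eq.symm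
  have h8 := hlt fun hmt => by
    rcases hmem t hmt with h' | h' | h' | h'
    exacts [hcon.1 h', hcon.2.1 h', hcon.2.2.1 h', hcon.2.2.2 h']
  have := h _ hA (mem_sup_left (mem_sup_left (mem_zpowers z))) (mem_sup_left (mem_sup_right (mem_zpowers x)))
  omega

theorem exists_center2 (hyp : Hyp G) (S : Sylow 2 G) (hcard : Nat.card (Om S) ≤ 2) :
    ∃ z, Center2 S z ∧ z ∈ Cfsg.pResidual 2 G := by
  obtain ⟨z, hz, hz1, hzH⟩ := hyp.exists_Om_residual S
  have hz2 := orderOf_two (mem_Om.1 hz).2.2 hz1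
  have he : zpowers z = Om S := eq_of_le_of_card_ge (zpowers_le.2 hz)
    (by rw [Nat.card_zpowers, hz2]; exact hcard)
  exact ⟨z, ⟨hz2, hz, fun t ht => mem_zpowers_two (mul_self_of_two hz2) (he.symm ▸ ht)⟩, hzH⟩

theorem Center2.centralizer_le {S : Sylow 2 G} {z : G} (h : Center2 S z) (hyp : Hyp G) :
    centralizer ({z} : Set G) ≤ normalizer ((S : Subgroup G) : Set G) := by
  refine le_trans (fun c hc => mem_centralizer_iff.2 fun t ht => ?_) (hyp.cent S)
  rcases h.2.2 t ht with rfl | rfl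
  · simp
  · exact (mem_centralizer_singleton_iff.1 hc).symm

theorem Center2.conj_eq_of_normalizer {S : Sylow 2 G} {z n : G} (h : Center2 S z)
    (hn : n ∈ normalizer ((S : Subgroup G) : Set G)) : n * z * n⁻¹ = z := by
  have h' := h.smul n
  rw [Sylow.smul_eq_iff_mem_normalizer.2 hn] at h'
  rcases h'.2.2 z h.2.1 with h1 | h1
  · exact absurd h1 (ne_one_of_two h.1)
  · exact h1.symm

variable (hyp : Hyp G)
include hyp

/-- A maximal subgroup of `S` all of whose involutions are conjugate to `z`. -/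
theorem exists_pure_maximal {S : Sylow 2 G} {z x : G} (hS : Center2 S z) (hxS : x ∈ (S : Subgroup G))
    (hx : IsConj z x) (hne : x ≠ z) (ho : Only z x) :
    ∃ M : Subgroup G, M.relIndex (S : Subgroup G) = 2 ∧ ∀ m ∈ M, orderOf m = 2 → IsConj z m := by
  have : Fact (Nat.Prime 2) := ⟨Nat.prime_two⟩
  have hxord : orderOf x = 2 := by
    obtain ⟨g, rfl⟩ := isConj_iff.1 hx
    exact (orderOf_conj' g z).trans hS.1
  have hxc : ¬ ∀ s ∈ (S : Subgroup G), s * x = x * s := fun h => by
    rcases hS.2.2 x (mem_Om.2 ⟨hxS, h, mul_self_of_two hxord⟩) with h' | h'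
    · exact ne_one_of_two hxord h'
    · exact hne h'
  rcases normal_four_or_small hyp hS hxS hx hne ho with ⟨v, hvS, hvJ, hvne, hov, hvn⟩ | hC
  · refine ⟨(S : Subgroup G) ⊓ centralizer ({v} : Set G), ?_, fun m hm hm2 => ?_⟩
    · rw [inf_relIndex_left, relIndex]
      have hvord : orderOf v = 2 := by
        obtain ⟨g, rfl⟩ := isConj_iff.1 hvJ
        exact (orderOf_conj' g z).trans hS.1
      obtain ⟨a, ha, hav⟩ : ∃ a ∈ (S : Subgroup G), a * v ≠ v * a := by
        by_contra h
        push Not at h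
        rcases hS.2.2 v (mem_Om.2 ⟨hvS, h, mul_self_of_two hvord⟩) with h' | h'
        · exact ne_one_of_two hvord h'
        · exact hvne h'
      have ha' : a * v * a⁻¹ = z * v :=
        (hvn a ha).resolve_left fun h => hav (mul_inv_eq_iff_eq_mul.1 h)
      refine index_eq_two_iff.2 ⟨⟨a, ha⟩, fun b => ?_⟩
      simp only [mem_subgroupOf, mem_centralizer_singleton_iff, coe_mul]
      by_cases hb : (b : G) * v = v * b
      · refine Or.inr ⟨hb, fun h => hav ?_⟩
        have h1 : (b : G) * (a * v) = b * (v * a) := by rw [← mul_assoc, h, ← mul_assoc, ← hb, mul_assoc]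
        exact mul_left_cancel h1
      · refine Or.inl ⟨mul_inv_eq_iff_eq_mul.1 ?_, hb⟩
        have hb' : (b : G) * v * (b : G)⁻¹ = z * v :=
          (hvn b b.2).resolve_left fun h => hb (mul_inv_eq_iff_eq_mul.1 h)
        calc (b : G) * a * v * ((b : G) * a)⁻¹ = (b : G) * (a * v * a⁻¹) * (b : G)⁻¹ := by group
          _ = (b : G) * z * (v * (b : G)⁻¹) := by rw [ha']; group
          _ = z * ((b : G) * v * (b : G)⁻¹) := by rw [hS.comm b.2]; group
          _ = v := by rw [hb', ← mul_assoc, mul_self_of_two hS.1, one_mul]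
    · rcases hov m (mul_self_of_two hm2) (hS.comm hm.1) (mem_centralizer_singleton_iff.1 hm.2) with
        h | h | h | h
      · exact absurd h (ne_one_of_two hm2)
      · exact h ▸ IsConj.refl z
      · exact h ▸ hvJ
      · exact h ▸ isConj_mul hyp hS hvJ hvne (hS.comm hvS) hov
  · obtain ⟨M, hM, hMinv, -⟩ := small_structure S.isPGroup' (x := ⟨x, hxS⟩) (z := ⟨z, hS.mem⟩)
      (by rw [Subgroup.orderOf_mk]; exact hxord) (by rw [Subgroup.orderOf_mk]; exact hS.1)
      (mem_center_iff.2 fun g => Subtype.ext (hS.comm g.2))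
      (fun h => hxc fun s hs => congrArg Subtype.val (mem_center_iff.1 h ⟨s, hs⟩))
      (fun y hy => by
        rcases hC y y.2 (congrArg Subtype.val hy) with h | h | h | h
        · exact Or.inl (Subtype.ext h)
        · exact Or.inr (Or.inl (Subtype.ext h))
        · exact Or.inr (Or.inr (Or.inl (Subtype.ext h)))
        · exact Or.inr (Or.inr (Or.inr (Subtype.ext h))))
    refine ⟨M.map (S : Subgroup G).subtype, ?_, fun m hm hm2 => ?_⟩
    · rw [relIndex, subgroupOf, comap_map_eq_self_of_injective (S : Subgroup G).subtype_injective, hM]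
    · obtain ⟨m', hm', rfl⟩ := hm
      rcases hMinv m' hm' (by rwa [← orderOf_coe]) with h | h
      · rw [h]; exact IsConj.refl z
      · exact hx.trans ((S : Subgroup G).subtype.map_isConj h)

/-- The cores of the centralizers of commuting central involutions coincide. -/
theorem core_le {S S' : Sylow 2 G} {z z' : G} (hz : Center2 S z) (hz' : Center2 S' z')
    (hc : z * z' = z' * z) :
    Cfsg.centralizerPPrimeCore 2 z ≤ Cfsg.centralizerPPrimeCore 2 z' := by
  have : Fact (Nat.Prime 2) := ⟨Nat.prime_two⟩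
  set C := centralizer ({z} : Set G) with hC
  set X := Cfsg.centralizerPPrimeCore 2 z with hX
  have hXC : X ≤ C := coreP_le 2 C
  have hXodd : (Nat.card X).Coprime 2 := coreP_coprime 2 C
  have hSC : (S : Subgroup G) ≤ C := fun s hs => mem_centralizer_singleton_iff.2 (hz.comm hs)
  have hCS := hz.centralizer_le hyp
  have hSX : ∀ x ∈ X, ∀ s ∈ (S : Subgroup G), s * x = x * s := by
    intro x hx s hs
    have h1 : x * s * x⁻¹ * s⁻¹ ∈ X := by
      have h' := (mem_normalizer_iff.1 (le_normalizer_coreP 2 C (hSC hs)) x⁻¹).1 (inv_mem hx)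
      rw [show x * s * x⁻¹ * s⁻¹ = x * (s * x⁻¹ * s⁻¹) by group]
      exact mul_mem hx h'
    have h2 : x * s * x⁻¹ * s⁻¹ ∈ (S : Subgroup G) :=
      mul_mem ((mem_normalizer_iff.1 (hCS (hXC hx)) s).1 hs) (inv_mem hs)
    obtain ⟨k, hk⟩ := IsPGroup.iff_card.1 S.isPGroup'
    have h3 := Nat.eq_one_of_dvd_coprimes (hk ▸ hXodd.pow_right k)
      (Subgroup.orderOf_dvd_natCard X h1) (Subgroup.orderOf_dvd_natCard _ h2)
    rw [orderOf_eq_one_iff, mul_inv_eq_one, mul_inv_eq_iff_eq_mul] at h3
    exact h3.symm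
  have hz'S : z' ∈ (S : Subgroup G) := hz.mem_of_comm hyp (mul_self_of_two hz'.1) hc.symm
  have hzS' : z ∈ (S' : Subgroup G) := hz'.mem_of_comm hyp (mul_self_of_two hz.1) hc
  set C' := centralizer ({z'} : Set G) with hC'
  have hXC' : X ≤ C' := fun x hx => mem_centralizer_singleton_iff.2 (hSX x hx z' hz'S).symm
  have hXS' : X ≤ centralizer ((S' : Subgroup G) : Set G) := by
    refine CfsgLib.Solvable.thompson_pxq (p := 2) (P := (S : Subgroup G) ⊓ (S' : Subgroup G))
      (S.isPGroup'.to_le inf_le_left) hXodd S'.isPGroup' ?_ ?_ (hXC'.trans (hz'.centralizer_le hyp)) ?_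
    · exact fun d hd => mem_centralizer_iff.2 fun x hx => (hSX x hx d hd.1).symm
    · exact inf_le_right.trans le_normalizer
    · rintro c ⟨hcS', hcD⟩
      have hcz : c * z = z * c := (mem_centralizer_iff.1 hcD z ⟨hz.mem, hzS'⟩).symm
      have hcS : c ∈ (S : Subgroup G) := by
        refine hz.pgroup_le hyp (Q := zpowers c) (S'.isPGroup'.to_le (zpowers_le.2 hcS')) ?_ (mem_zpowers c)
        rintro _ ⟨i, rfl⟩
        exact ((show Commute c z from hcz).zpow_left i).eq
      exact mem_centralizer_iff.2 fun x hx => (hSX x hx c hcS).symm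
  intro x hx
  have := hyp.solv z' hz'.1
  set O := Cfsg.pPrimeCore 2 ↥C' with hO
  haveI hOn : O.Normal := CfsgLib.Solvable.pPrimeCore_normal 2 ↥C'
  set f := QuotientGroup.mk' O with hf
  have hfs : Function.Surjective f := QuotientGroup.mk'_surjective O
  haveI : Group.IsSolvable (↥C' ⧸ O) := Group.isSolvable_of_surjective hfs
  have hbot : Cfsg.pPrimeCore 2 (↥C' ⧸ O) = ⊥ := CfsgLib.Solvable.pPrimeCore_quotient_eq_bot O rfl
  have hS'C : (S' : Subgroup G) ≤ C' := fun s hs => mem_centralizer_singleton_iff.2 (hz'.comm hs)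
  set Q := (S'.subtype hS'C).mapSurjective hfs with hQ
  have hcent : f ⟨x, hXC' hx⟩ ∈ Cfsg.pCore 2 (↥C' ⧸ O) := by
    refine CfsgLib.Case.centralizer_pCore_le_of_solvable hbot (mem_centralizer_iff.2 fun y hy => ?_)
    obtain ⟨s, hs, rfl⟩ := (CfsgLib.Solvable.pCore_le_sylow Q) hy
    rw [← map_mul, ← map_mul]
    exact congrArg f (Subtype.ext (mem_centralizer_iff.1 (hXS' hx) (s : G) hs))
  have h1 : f ⟨x, hXC' hx⟩ = 1 := by
    obtain ⟨k, hk⟩ := IsPGroup.iff_card.1 (CfsgLib.Solvable.pCore_isPGroup 2 (↥C' ⧸ O))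
    have hd2 := Subgroup.orderOf_dvd_natCard _ hcent
    rw [hk] at hd2
    have hd1 : orderOf (f ⟨x, hXC' hx⟩) ∣ Nat.card X :=
      (orderOf_map_dvd f _).trans (by rw [Subgroup.orderOf_mk]; exact Subgroup.orderOf_dvd_natCard X hx)
    exact orderOf_eq_one_iff.1 (Nat.eq_one_of_dvd_coprimes (hXodd.pow_right k) hd1 hd2)
  exact ⟨⟨x, hXC' hx⟩, (QuotientGroup.eq_one_iff _).1 h1, rfl⟩

/-- The first rank two case: `Ω₁(Z(S))` has order at least four. -/
theorem rankTwo_large (hrk : Cfsg.PRankLE 2 2 G) (S : Sylow 2 G) (hcard : 2 < Nat.card (Om S)) :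
    Nat.card (Om S) = 4 ∧
      Cfsg.omegaOne 2 ((S : Subgroup G) ⊓ Cfsg.pResidual 2 G) = Om S := by
  have : Fact (Nat.Prime 2) := ⟨Nat.prime_two⟩
  have hel := Om_elementary S
  have h4 : Nat.card (Om S) = 4 := by
    obtain ⟨n, hn⟩ := (CfsgLib.Signalizer.elementary_isPGroup hel).exists_card_eq
    have h := hrk (Om S) hel.1 hel.2
    rw [hn] at h hcard ⊢
    have : n = 2 := by
      rcases Nat.lt_or_ge n 2 with h' | h'
      · interval_cases n <;> norm_num at hcard
      · have := (Nat.pow_le_pow_iff_right (by norm_num : 1 < 2)).1 h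
        omega
    rw [this]
    norm_num
  have hinv : ∀ t ∈ (S : Subgroup G), t * t = 1 → t ∈ Om S := by
    intro t ht ht2
    by_contra hnot
    have hto : orderOf t = 2 := orderOf_two ht2 fun h => hnot (h ▸ one_mem _)
    obtain ⟨he, hlt⟩ := sup_zpowers_facts hel hto fun a ha => ((mem_Om.1 ha).2.1 t ht).symm
    have h1 := hlt hnot
    have h2 := hrk _ he.1 he.2
    omega
  have hfuse : ∀ x ∈ Om S, x ≠ 1 → ∃ w ∈ Om S, w ≠ x ∧ IsConj x w := by
    intro x hx hx1
    have hx2 := orderOf_two (mem_Om.1 hx).2.2 hx1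
    by_contra hcon
    push Not at hcon
    obtain ⟨N, hNn, hNo, hN⟩ := CfsgLib.Invol.zStar_sylow S x hx2 fun g hg => by
      by_contra hne
      exact hcon _ (hinv _ hg (mul_self_of_two ((orderOf_conj' g x).trans hx2))) hne
        (isConj_iff.2 ⟨g, rfl⟩)
    have hNbot : N = ⊥ := le_bot_iff.1 (hyp.oddCore ▸
      le_sSup ⟨hNn, (Nat.coprime_two_left.2 hNo).symm⟩)
    have hcen : ∀ g : G, g * x * g⁻¹ = x := fun g => by
      have h := hN g
      rw [hNbot, mem_bot, mul_inv_eq_one, mul_inv_eq_iff_eq_mul] at h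
      rw [← h, mul_inv_cancel_right]
    have hn : (zpowers x).Normal := ⟨fun a ha g => by
      rcases mem_zpowers_two (mul_self_of_two hx2) ha with rfl | rfl
      · simp
      · rw [hcen g]; exact mem_zpowers a⟩
    have h1 : zpowers x ≤ Cfsg.pCore 2 G := le_sSup ⟨hn, twoGroup_zpowers (mul_self_of_two hx2)⟩
    rw [hyp.twoCore, zpowers_le, mem_bot] at h1
    exact hx1 h1
  obtain ⟨z₀, hz₀, hz₀1, hz₀H⟩ := hyp.exists_Om_residual S
  haveI hHn := CfsgLib.LocalStr.pResidual_normal G 2
  have hOmH : Om S ≤ Cfsg.pResidual 2 G := by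
    intro z hz
    rcases eq_or_ne z 1 with rfl | hz1
    · exact one_mem _
    rcases eq_or_ne z z₀ with rfl | hne
    · exact hz₀H
    suffices h : IsConj z₀ z by
      obtain ⟨g, rfl⟩ := isConj_iff.1 h
      exact hHn.conj_mem z₀ hz₀H g
    have hz₀2 := orderOf_two (mem_Om.1 hz₀).2.2 hz₀1
    have hz2 := orderOf_two (mem_Om.1 hz).2.2 hz1
    obtain ⟨-, h4', hmem⟩ := four_facts hz₀2 hz2 hne ((mem_Om.1 hz).2.1 z₀ (Om_le S hz₀))
    have heq : zpowers z₀ ⊔ zpowers z = Om S :=
      eq_of_le_of_card_ge (sup_le (zpowers_le.2 hz₀) (zpowers_le.2 hz)) (by omega)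
    have hcases : ∀ w ∈ Om S, IsConj z₀ w ∨ IsConj z w → w = 1 ∨ w = z₀ ∨ w = z ∨ w = z₀ * z :=
      fun w hw _ => hmem w (heq.symm ▸ hw)
    obtain ⟨w, hw, hwne, hwc⟩ := hfuse z₀ hz₀ hz₀1
    obtain ⟨w', hw', hw'ne, hw'c⟩ := hfuse z hz hz1
    rcases hcases w hw (Or.inl hwc) with rfl | rfl | rfl | rfl
    · exact absurd (isConj_one_left.1 hwc) hz₀1
    · exact absurd rfl hwne
    · exact hwc
    · rcases hcases w' hw' (Or.inr hw'c) with rfl | rfl | rfl | rfl
      · exact absurd (isConj_one_left.1 hw'c) hz1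
      · exact hw'c.symm
      · exact absurd rfl hw'ne
      · exact hwc.trans hw'c.symm
  refine ⟨h4, le_antisymm ((closure_le _).2 ?_) fun z hz => ?_⟩
  · rintro x ⟨⟨hxS, -⟩, hx2⟩
    exact hinv x hxS (by rw [← pow_two]; exact hx2)
  · exact subset_closure ⟨⟨Om_le S hz, hOmH hz⟩, by rw [pow_two]; exact (mem_Om.1 hz).2.2⟩

/-- The second rank two case. -/
theorem rankTwo_small (hrk : Cfsg.PRankLE 2 2 G) {S : Sylow 2 G} {z x : G} (hS : Center2 S z)
    (hxS : x ∈ (S : Subgroup G)) (hx : IsConj z x) (hne : x ≠ z) :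
    (∃ M : Subgroup ↥(Cfsg.pResidual 2 G), Cfsg.IsStronglyEmbedded M) ∨
      ∀ t ∈ Cfsg.pResidual 2 G, orderOf t = 2 → Cfsg.centralizerPPrimeCore 2 t = ⊥ := by
  have : Fact (Nat.Prime 2) := ⟨Nat.prime_two⟩
  have hxord : orderOf x = 2 := by
    obtain ⟨g, rfl⟩ := isConj_iff.1 hx
    exact (orderOf_conj' g z).trans hS.1
  have ho : Only z x := only_of_no_big hS.1 hxord hne (hS.comm hxS).symm fun A hA _ _ => by
    have := hrk A hA.1 hA.2
    omega
  obtain ⟨M₀, hM₀, hpure⟩ := exists_pure_maximal hyp hS hxS hx hne ho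
  have hJ : ∀ u ∈ Cfsg.pResidual 2 G, orderOf u = 2 → IsConj z u := by
    intro u hu hu2
    by_contra hcon
    refine notMem_pResidual S M₀ hM₀ (mul_self_of_two hu2) (fun g hg => hcon ?_) hu
    exact (hpure _ hg ((orderOf_conj' g u).trans hu2)).trans
      (isConj_iff.2 ⟨g⁻¹, by group⟩)
  let R : G → G → Prop := fun a b => IsConj z a ∧ IsConj z b ∧ a * b = b * a
  have hRsymm : ∀ {a b : G}, Relation.ReflTransGen R a b → Relation.ReflTransGen R b a := by
    intro a b h
    induction h with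
    | refl => exact Relation.ReflTransGen.refl
    | tail _ hab ih => exact Relation.ReflTransGen.head ⟨hab.2.1, hab.1, hab.2.2.symm⟩ ih
  have hRconj : ∀ (g : G) {a b : G}, Relation.ReflTransGen R a b →
      Relation.ReflTransGen R (g * a * g⁻¹) (g * b * g⁻¹) := by
    intro g a b h
    induction h with
    | refl => exact Relation.ReflTransGen.refl
    | @tail b c _ hbc ih =>
      refine ih.tail ⟨hbc.1.trans (isConj_iff.2 ⟨g, rfl⟩), hbc.2.1.trans (isConj_iff.2 ⟨g, rfl⟩), ?_⟩
      rw [show g * b * g⁻¹ * (g * c * g⁻¹) = g * (b * c) * g⁻¹ by group, hbc.2.2]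
      group
  let M : Subgroup G :=
    { carrier := {g | Relation.ReflTransGen R z (g * z * g⁻¹)}
      one_mem' := by
        show Relation.ReflTransGen R z (1 * z * 1⁻¹)
        rw [one_mul, inv_one, mul_one]
      mul_mem' := fun {a b} ha hb => by
        show Relation.ReflTransGen R z (a * b * z * (a * b)⁻¹)
        rw [show a * b * z * (a * b)⁻¹ = a * (b * z * b⁻¹) * a⁻¹ by group]
        exact (show Relation.ReflTransGen R z (a * z * a⁻¹) from ha).trans (hRconj a hb)
      inv_mem' := fun {a} ha => by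
        show Relation.ReflTransGen R z (a⁻¹ * z * a⁻¹⁻¹)
        have h := hRconj a⁻¹ (hRsymm (show Relation.ReflTransGen R z (a * z * a⁻¹) from ha))
        rwa [show a⁻¹ * (a * z * a⁻¹) * a⁻¹⁻¹ = z by group] at h }
  have hNM : normalizer ((S : Subgroup G) : Set G) ≤ M := fun n hn => by
    show Relation.ReflTransGen R z (n * z * n⁻¹)
    rw [hS.conj_eq_of_normalizer hn]
  by_cases hM : M = ⊤
  · right
    intro t htH ht2
    have hcomp : ∀ b : G, Relation.ReflTransGen R z b →
        Cfsg.centralizerPPrimeCore 2 b = Cfsg.centralizerPPrimeCore 2 z := by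
      intro b hb
      induction hb with
      | refl => rfl
      | @tail b c _ hbc ih =>
        rw [← ih]
        obtain ⟨g, rfl⟩ := isConj_iff.1 hbc.1
        obtain ⟨g', rfl⟩ := isConj_iff.1 hbc.2.1
        exact le_antisymm (core_le hyp (hS.smul g') (hS.smul g) hbc.2.2.symm)
          (core_le hyp (hS.smul g) (hS.smul g') hbc.2.2)
    set X := Cfsg.centralizerPPrimeCore 2 z with hX
    have hconjX : ∀ g : G, X.map (MulAut.conj g).toMonoidHom = X := fun g => by
      have hg : g ∈ M := hM ▸ mem_top g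
      rw [hX, ← CfsgLib.Signalizer.Connected.centralizerPPrimeCore_conj]
      exact hcomp _ hg
    haveI hXn : X.Normal := ⟨fun a ha g => (hconjX g).le ⟨a, ha, rfl⟩⟩
    have hXbot : X = ⊥ := le_bot_iff.1 (hyp.oddCore ▸ le_sSup ⟨hXn, coreP_coprime 2 _⟩)
    obtain ⟨g, rfl⟩ := isConj_iff.1 (hJ t htH ht2)
    rw [CfsgLib.Signalizer.Connected.centralizerPPrimeCore_conj, ← hX, hXbot, Subgroup.map_bot]
  · left
    refine hyp.stronglyEmbedded_of hM hNM fun t htH htM ht2 c hc => ?_
    obtain ⟨m, hm, htm⟩ := exists_conj_mem_sylow_of_le (le_normalizer.trans hNM) htM (mul_self_of_two ht2)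
    have hzt : Relation.ReflTransGen R z t :=
      (show Relation.ReflTransGen R z (m * z * m⁻¹) from hm).tail
        ⟨isConj_iff.2 ⟨m, rfl⟩, hJ t htH ht2, ((hS.smul m).comm htm).symm⟩
    have h1 := hRconj c hzt
    rw [show c * t * c⁻¹ = t from by rw [mem_centralizer_singleton_iff.1 hc, mul_inv_cancel_right]] at h1
    exact hzt.trans (hRsymm h1)

end CfsgLib.SmithTwo
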